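import Cfsg.Agent.R2.H27.ClsA

/-!
# S5934, assembly: the classes 7 - 12 (helper27)
-/

set_option autoImplicit false

namespace Cfsg.Agent.R2.H27.Asm

open Subgroup
open scoped commutatorElement Pointwise

section Gen

variable {G : Type*} [Group G]

/-- extra data of class 7, comparison with class 8 -/
def Ex7' (q : ℕ) (M : Subgroup G) : Prop := ∃ J : Subgroup G, ⁅J, J⁆ = J ∧ q ∣ Nat.card ↥J ∧
  (Cfsg.pCore 3 ↥M).map M.subtype ≤ centralizer (J : Set G)

/-- extra data of class 8, comparison with class 7 -/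
def Ex8 (q : ℕ) (M : Subgroup G) : Prop := ∀ J : Subgroup G, ⁅J, J⁆ = J →
  (Cfsg.pCore 3 ↥M).map M.subtype ≤ centralizer (J : Set G) → ¬ q ∣ Nat.card ↥J

theorem pCore_map_conj (p : ℕ) (M : Subgroup G) (g : G) :
    (Cfsg.pCore p ↥(M.map (MulAut.conj g).toMonoidHom)).map (M.map (MulAut.conj g).toMonoidHom).subtype =
      ((Cfsg.pCore p ↥M).map M.subtype).map (MulAut.conj g).toMonoidHom := by
  rw [← Cfsg.Agent.Lib.Cores.map_equiv_pCore (M.equivMapOfInjective _ (MulAut.conj g).injective) p,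
    Subgroup.map_map, Subgroup.map_map]
  rfl

theorem map_le_centralizer {H K : Type*} [Group H] [Group K] (f : H →* K) {A B : Subgroup H}
    (h : A ≤ centralizer (B : Set H)) : A.map f ≤ centralizer ((B.map f : Subgroup K) : Set K) := by
  rintro _ ⟨a, ha, rfl⟩
  rw [mem_centralizer_iff]
  rintro _ ⟨b, hb, rfl⟩
  rw [← map_mul, ← map_mul, mem_centralizer_iff.1 (h ha) b hb]

theorem Ex7'.sim {q : ℕ} {M M' : Subgroup G} (h : Ex7' q M) (hs : Sim M M') : Ex7' q M' := by
  obtain ⟨g, rfl⟩ := hs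
  obtain ⟨J, h1, h2, h3⟩ := h
  refine ⟨J.map (MulAut.conj g).toMonoidHom, ?_, ?_, ?_⟩
  · rw [← Subgroup.map_commutator, h1]
  · rw [← (Sim.conj J g).card]
    exact h2
  · rw [pCore_map_conj]
    exact map_le_centralizer _ h3

theorem sp78 {q : ℕ} {M M' : Subgroup G} (h : Ex7' q M) (h' : Ex8 q M') (hs : Sim M M') : False := by
  obtain ⟨J, h1, h2, h3⟩ := h.sim hs
  exact h' J h1 h3 h2

/-! ### classes 2 and 7 -/

/-- the extra data of class 2 -/
def Ex2G (n : ℕ) (M : Subgroup G) : Prop := ∃ X : Subgroup G, X ≤ M ∧ M ≤ normalizer (X : Set G) ∧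
  n ∣ Nat.card ↥X ∧ Nat.card ↥(center ↥X) = 3

theorem map_le_normalizer {H K : Type*} [Group H] [Group K] (f : H →* K) {A B : Subgroup H}
    (h : A ≤ normalizer (B : Set H)) : A.map f ≤ normalizer ((B.map f : Subgroup K) : Set K) := by
  exact (Subgroup.map_mono h).trans (Subgroup.le_normalizer_map f)

theorem Ex2G.sim {n : ℕ} {M M' : Subgroup G} (h : Ex2G n M) (hs : Sim M M') : Ex2G n M' := by
  obtain ⟨g, rfl⟩ := hs
  obtain ⟨X, h1, h2, h3, h4⟩ := h
  refine ⟨X.map (MulAut.conj g).toMonoidHom, Subgroup.map_mono h1, map_le_normalizer _ h2, ?_, ?_⟩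
  · rw [← (Sim.conj X g).card]
    exact h3
  · rw [← card_center_congr (X.equivMapOfInjective _ (MulAut.conj g).injective)]
    exact h4

/-- extra data of class 7, comparison with class 2 -/
def Ex7 (n : ℕ) (M : Subgroup G) : Prop := ∃ (A : Subgroup G) (z : G), centralizer {z} ≤ M ∧
  ¬ n ∣ Nat.card (centralizer {z} : Subgroup G) ∧ A ≤ centralizer {z} ∧ IsPGroup 3 ↥A ∧
  centralizer (A : Set G) = A ∧
  (∀ e ∈ A, e ≠ 1 → centralizer {z} ≤ normalizer (zpowers e : Set G) → zpowers e = zpowers z)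

/-- a `3`-group normalising `⟨e⟩` of order 3 centralises it -/
theorem comm_of_norm {A : Subgroup G} (hA : IsPGroup 3 ↥A) {e : G} (he : orderOf e = 3)
    (hn : A ≤ normalizer (zpowers e : Set G)) {a : G} (ha : a ∈ A) : e * a = a * e := by
  have h1 : a * e * a⁻¹ ∈ zpowers e := ((Subgroup.mem_normalizer_iff.1 (hn ha)) e).1 (mem_zpowers e)
  obtain ⟨k, hk⟩ := Subgroup.mem_zpowers_iff.1 h1
  have h3 : e ^ (3 : ℤ) = 1 := by
    have := pow_orderOf_eq_one e
    rw [he] at this
    exact_mod_cast this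
  have h2 : e ^ (k % 3) = a * e * a⁻¹ := by
    rw [← hk]
    conv_rhs => rw [← Int.mul_ediv_add_emod k 3, zpow_add, zpow_mul, h3, one_zpow, one_mul]
  have h4 : e ≠ 1 := by
    rintro rfl
    rw [orderOf_one] at he
    omega
  have h5 : k % 3 = 0 ∨ k % 3 = 1 ∨ k % 3 = 2 := by omega
  rcases h5 with h5 | h5 | h5
  · rw [h5, zpow_zero] at h2
    exfalso
    apply h4
    have : e = a⁻¹ * (a * e * a⁻¹) * a := by group
    rw [this, ← h2]; group
  · rw [h5, zpow_one] at h2
    nth_rewrite 1 [h2]; group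
  · exfalso
    rw [h5] at h2
    -- `a` inverts `e`
    have h6 : a * e * a⁻¹ = e⁻¹ := by
      rw [← h2]
      have h8 : e ^ (2 : ℤ) * e = 1 := by rw [← zpow_add_one]; exact h3
      exact eq_inv_of_mul_eq_one_left h8
    obtain ⟨n, hn'⟩ := hA ⟨a, ha⟩
    have h7 : a ^ 3 ^ n = 1 := congrArg Subtype.val hn'
    have h8 : ∀ m : ℕ, a ^ (2 * m + 1) * e * (a ^ (2 * m + 1))⁻¹ = e⁻¹ := by
      intro m
      induction m with
      | zero => simpa using h6
      | succ m ih =>
        have e1 : a ^ (2 * (m + 1) + 1) = a * (a * a ^ (2 * m + 1)) := by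
          rw [← pow_succ', ← pow_succ']
          congr 1
        rw [e1]
        calc a * (a * a ^ (2 * m + 1)) * e * (a * (a * a ^ (2 * m + 1)))⁻¹
            = a * (a * (a ^ (2 * m + 1) * e * (a ^ (2 * m + 1))⁻¹) * a⁻¹) * a⁻¹ := by group
          _ = a * (a * e * a⁻¹)⁻¹ * a⁻¹ := by rw [ih]; group
          _ = e⁻¹ := by
            rw [h6, inv_inv, h6]
    obtain ⟨m, hm⟩ : ∃ m, 3 ^ n = 2 * m + 1 := by
      have : Odd (3 ^ n) := Odd.pow (by decide)
      exact this
    have h9 := h8 m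
    rw [← hm, h7] at h9
    have h10 : e = e⁻¹ := by simpa using h9
    have h11 : e ^ 2 = 1 := by
      rw [pow_two]
      nth_rewrite 2 [h10]
      exact mul_inv_cancel e
    have h12 : orderOf e ∣ 2 := orderOf_dvd_of_pow_eq_one h11
    rw [he] at h12
    revert h12; decide

theorem sp27 [Finite G] {n : ℕ} {M M' : Subgroup G} (h : Ex2G n M) (h' : Ex7 n M') (hs : Sim M M') : False := by
  obtain ⟨X, h1, h2, h3, h4⟩ := h.sim hs
  obtain ⟨A, z, k1, k2, k3, k4, k5, k6⟩ := h'
  apply k2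
  obtain ⟨e₀, he₀⟩ := exists_orderOf (X := ↥(center ↥X)) (q := 3) (by norm_num) (by rw [h4])
  set e : G := ((e₀ : ↥X) : G) with he
  have he3 : orderOf e = 3 := by
    rw [he, Subgroup.orderOf_coe, Subgroup.orderOf_coe, he₀]
  have hXe : X ≤ centralizer {e} := by
    intro x hx
    rw [mem_centralizer_singleton_iff]
    have h5 := Subgroup.mem_center_iff.1 e₀.2 ⟨x, hx⟩
    exact (congrArg Subtype.val h5)
  have hce : (center ↥X).map X.subtype = zpowers e := by
    symm
    apply Subgroup.eq_of_le_of_card_ge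
    · rw [Subgroup.zpowers_le]
      exact ⟨e₀, e₀.2, rfl⟩
    · rw [Nat.card_zpowers, he3, ← h4]
      exact (Nat.card_congr ((center ↥X).equivMapOfInjective _ X.subtype_injective).toEquiv).symm.le
  have hMe : M' ≤ normalizer (zpowers e : Set G) := by
    intro m hm
    rw [← hce]
    have h6 : ∀ m ∈ M', ∀ x ∈ (center ↥X).map X.subtype, m * x * m⁻¹ ∈ (center ↥X).map X.subtype := by
      rintro m hm _ ⟨x, hx, rfl⟩
      have h7 := h2 hm
      have h8 : m * x * m⁻¹ ∈ X := ((Subgroup.mem_normalizer_iff.1 h7) x).1 x.2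
      refine ⟨⟨m * x * m⁻¹, h8⟩, ?_, rfl⟩
      show (⟨m * x * m⁻¹, h8⟩ : ↥X) ∈ center ↥X
      rw [Subgroup.mem_center_iff]
      rintro ⟨y, hy⟩
      apply Subtype.ext
      show y * (m * x * m⁻¹) = m * x * m⁻¹ * y
      have h9 : m⁻¹ * y * m ∈ X := by
        have := ((Subgroup.mem_normalizer_iff.1 (inv_mem h7)) y).1 hy
        simpa using this
      have h10 : (m⁻¹ * y * m) * x = x * (m⁻¹ * y * m) :=
        congrArg Subtype.val (Subgroup.mem_center_iff.1 hx ⟨_, h9⟩)
      calc y * (m * x * m⁻¹) = m * ((m⁻¹ * y * m) * x) * m⁻¹ := by group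
        _ = m * x * m⁻¹ * y := by rw [h10]; group
    rw [Subgroup.mem_normalizer_iff]
    intro x
    constructor
    · exact h6 m hm x
    · intro hx
      have := h6 m⁻¹ (inv_mem hm) _ hx
      have e1 : m⁻¹ * (m * x * m⁻¹) * m⁻¹⁻¹ = x := by group
      rwa [e1] at this
  have hzM : centralizer {z} ≤ normalizer (zpowers e : Set G) := k1.trans hMe
  have heA : e ∈ A := by
    rw [← k5, mem_centralizer_iff]
    intro a ha
    exact (comm_of_norm k4 he3 (k3.trans hzM) ha).symm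
  have he1 : e ≠ 1 := by
    intro h
    rw [h, orderOf_one] at he3
    omega
  have hz := k6 e heA he1 hzM
  have hXz : X ≤ centralizer {z} := by
    have h7 : z ∈ zpowers e := by rw [hz]; exact mem_zpowers z
    obtain ⟨k, rfl⟩ := Subgroup.mem_zpowers_iff.1 h7
    intro x hx
    rw [mem_centralizer_singleton_iff]
    have h8 : Commute x e := mem_centralizer_singleton_iff.1 (hXe hx)
    exact (h8.zpow_right k)
  exact h3.trans (dvd_card_of_le hXz)

/-! ### class 8 -/

theorem rank3 {c t : Fin 3 → G} {τ : G} (hc : ∀ i, orderOf (c i) = 3)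
    (hi : ∀ i, t i * c i * (t i)⁻¹ = (c i)⁻¹) (hτ : ∀ i, τ * c i * τ⁻¹ = c (i + 1))
    (hcc : ∀ i j, i ≠ j → Commute (c i) (c j) ∧ Commute (t i) (c j)) {P : Subgroup G}
    (hP : P ≤ closure (Set.range c)) (ht : ∀ i, t i ∈ normalizer (P : Set G)) (hτP : τ ∈ normalizer (P : Set G)) :
    P = ⊥ ∨ P = closure (Set.range c) := by
  -- the group `E` is abelian
  have hcomm : ∀ x ∈ closure (Set.range c), ∀ y ∈ closure (Set.range c), x * y = y * x := by
    intro x hx y hy
    have h1 : ∀ i j, c i * c j = c j * c i := by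
      intro i j
      by_cases h : i = j
      · rw [h]
      · exact (hcc i j h).1
    have h2 : ∀ y ∈ closure (Set.range c), ∀ i, y * c i = c i * y := by
      intro y hy i
      induction hy using Subgroup.closure_induction with
      | mem y hy => obtain ⟨j, rfl⟩ := hy; exact h1 j i
      | one => simp
      | mul a b _ _ ha hb => rw [mul_assoc, hb, ← mul_assoc, ha, mul_assoc]
      | inv a _ ha => exact (Commute.inv_left (show Commute a (c i) from ha))
    induction hx using Subgroup.closure_induction with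
    | mem x hx => obtain ⟨i, rfl⟩ := hx; exact (h2 y hy i).symm
    | one => simp
    | mul a b _ _ ha hb => rw [mul_assoc, hb, ← mul_assoc, ha, mul_assoc]
    | inv a _ ha => exact (Commute.inv_left (show Commute a y from ha))
  set E := closure (Set.range c) with hE
  have hcE : ∀ i, c i ∈ E := fun i => Subgroup.subset_closure ⟨i, rfl⟩
  -- `x = d₀ d₁ d₂` with `dᵢ = tᵢ x tᵢ⁻¹ x⁻¹ ∈ ⟨cᵢ⟩`
  have hc3 : ∀ i, c i * c i * c i = 1 := by
    intro i
    have := pow_orderOf_eq_one (c i)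
    rw [hc i] at this
    rw [← this]; rw [pow_succ, pow_two]
  have key : ∀ x ∈ E, (∀ i, t i * x * (t i)⁻¹ * x⁻¹ ∈ zpowers (c i)) ∧
      x = (t 0 * x * (t 0)⁻¹ * x⁻¹) * (t 1 * x * (t 1)⁻¹ * x⁻¹) * (t 2 * x * (t 2)⁻¹ * x⁻¹) := by
    intro x hx
    have hz : ∀ i, zpowers (c i) ≤ E := fun i => by rw [Subgroup.zpowers_le]; exact hcE i
    have hj3 : ∀ j : Fin 3, j = 0 ∨ j = 1 ∨ j = 2 := by decide
    have hself : ∀ i, t i * c i * (t i)⁻¹ * (c i)⁻¹ = c i := by
      intro i
      rw [hi i]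
      have h5 := hc3 i
      have h6 : (c i)⁻¹ * (c i)⁻¹ = c i := by
        have h7 : c i * (c i * c i) = 1 := by rw [← mul_assoc]; exact h5
        have h8 : (c i * c i)⁻¹ = c i := inv_eq_of_mul_eq_one_left h7
        rw [mul_inv_rev] at h8
        exact h8
      exact h6
    have hoth : ∀ i j, i ≠ j → t i * c j * (t i)⁻¹ * (c j)⁻¹ = 1 := by
      intro i j hij
      have h5 : t i * c j = c j * t i := (hcc i j hij).2
      rw [h5]; group
    induction hx using Subgroup.closure_induction with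
    | mem x hx =>
      obtain ⟨j, rfl⟩ := hx
      constructor
      · intro i
        by_cases h : i = j
        · subst h
          rw [hself i]; exact mem_zpowers _
        · rw [hoth i j h]; exact one_mem _
      · rcases hj3 j with rfl | rfl | rfl
        · rw [hself 0, hoth 1 0 (by decide), hoth 2 0 (by decide), mul_one, mul_one]
        · rw [hself 1, hoth 0 1 (by decide), hoth 2 1 (by decide), mul_one, one_mul]
        · rw [hself 2, hoth 0 2 (by decide), hoth 1 2 (by decide), one_mul, one_mul]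
    | one => constructor
             · intro i
               have : t i * 1 * (t i)⁻¹ * 1⁻¹ = 1 := by group
               rw [this]; exact one_mem _
             · group
    | mul a b ha' hb' ha hb =>
      have hab : ∀ i, t i * (a * b) * (t i)⁻¹ * (a * b)⁻¹ =
          (t i * a * (t i)⁻¹ * a⁻¹) * (t i * b * (t i)⁻¹ * b⁻¹) := by
        intro i
        have h5 : (t i * b * (t i)⁻¹ * b⁻¹) ∈ E := hz i (hb.1 i)
        have h6 := hcomm a ha' _ h5
        calc t i * (a * b) * (t i)⁻¹ * (a * b)⁻¹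
            = t i * a * (t i)⁻¹ * ((t i * b * (t i)⁻¹ * b⁻¹) * a⁻¹) := by group
          _ = t i * a * (t i)⁻¹ * (a⁻¹ * (a * (t i * b * (t i)⁻¹ * b⁻¹)) * a⁻¹) := by group
          _ = t i * a * (t i)⁻¹ * (a⁻¹ * ((t i * b * (t i)⁻¹ * b⁻¹) * a) * a⁻¹) := by rw [h6]
          _ = _ := by group
      constructor
      · intro i
        rw [hab i]
        exact mul_mem (ha.1 i) (hb.1 i)
      · rw [hab 0, hab 1, hab 2]
        have m0 := hz 0 (ha.1 0)
        have m1 := hz 1 (ha.1 1)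
        have m2 := hz 2 (ha.1 2)
        have k0 := hz 0 (hb.1 0)
        have k1 := hz 1 (hb.1 1)
        have k2 := hz 2 (hb.1 2)
        have ea := ha.2
        have eb := hb.2
        generalize t 0 * a * (t 0)⁻¹ * a⁻¹ = a0 at *
        generalize t 1 * a * (t 1)⁻¹ * a⁻¹ = a1 at *
        generalize t 2 * a * (t 2)⁻¹ * a⁻¹ = a2 at *
        generalize t 0 * b * (t 0)⁻¹ * b⁻¹ = b0 at *
        generalize t 1 * b * (t 1)⁻¹ * b⁻¹ = b1 at *
        generalize t 2 * b * (t 2)⁻¹ * b⁻¹ = b2 at *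
        rw [ea, eb]
        calc a0 * a1 * a2 * (b0 * b1 * b2) = a0 * (a1 * a2 * b0) * b1 * b2 := by group
          _ = a0 * (b0 * (a1 * a2)) * b1 * b2 := by rw [hcomm _ (mul_mem m1 m2) _ k0]
          _ = a0 * b0 * a1 * (a2 * b1) * b2 := by group
          _ = a0 * b0 * a1 * (b1 * a2) * b2 := by rw [hcomm _ m2 _ k1]
          _ = a0 * b0 * (a1 * b1) * (a2 * b2) := by group
    | inv a ha' ha =>
      have hab : ∀ i, t i * a⁻¹ * (t i)⁻¹ * a⁻¹⁻¹ = (t i * a * (t i)⁻¹ * a⁻¹)⁻¹ := by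
        intro i
        have h5 : (t i * a * (t i)⁻¹ * a⁻¹) ∈ E := hz i (ha.1 i)
        have h6 := hcomm a ha' _ (inv_mem h5)
        calc t i * a⁻¹ * (t i)⁻¹ * a⁻¹⁻¹
            = a⁻¹ * ((t i * a * (t i)⁻¹ * a⁻¹)⁻¹ * a) := by group
          _ = a⁻¹ * (a * (t i * a * (t i)⁻¹ * a⁻¹)⁻¹) := by rw [h6]
          _ = (t i * a * (t i)⁻¹ * a⁻¹)⁻¹ := by group
      constructor
      · intro i
        rw [hab i]
        exact inv_mem (ha.1 i)
      · rw [hab 0, hab 1, hab 2]
        have m0 := hz 0 (ha.1 0)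
        have m1 := hz 1 (ha.1 1)
        have m2 := hz 2 (ha.1 2)
        have ea := ha.2
        generalize t 0 * a * (t 0)⁻¹ * a⁻¹ = a0 at *
        generalize t 1 * a * (t 1)⁻¹ * a⁻¹ = a1 at *
        generalize t 2 * a * (t 2)⁻¹ * a⁻¹ = a2 at *
        rw [ea]
        calc (a0 * a1 * a2)⁻¹ = (a1 * a2)⁻¹ * a0⁻¹ := by group
          _ = a0⁻¹ * (a1 * a2)⁻¹ := by rw [hcomm _ (inv_mem (mul_mem m1 m2)) _ (inv_mem m0)]
          _ = a0⁻¹ * (a2⁻¹ * a1⁻¹) := by group
          _ = a0⁻¹ * (a1⁻¹ * a2⁻¹) := by rw [hcomm _ (inv_mem m2) _ (inv_mem m1)]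
          _ = a0⁻¹ * a1⁻¹ * a2⁻¹ := by group
  by_cases hbot : P = ⊥
  · exact Or.inl hbot
  right
  refine le_antisymm hP ?_
  obtain ⟨x, hx, hx1⟩ : ∃ x ∈ P, x ≠ 1 := by
    obtain ⟨x, hx⟩ := (Subgroup.ne_bot_iff_exists_ne_one).1 hbot
    exact ⟨x.1, x.2, fun h => hx (Subtype.ext h)⟩
  have hk := key x (hP hx)
  have hmem : ∀ i, t i * x * (t i)⁻¹ * x⁻¹ ∈ P := fun i =>
    P.mul_mem (((Subgroup.mem_normalizer_iff.1 (ht i)) x).1 hx) (P.inv_mem hx)
  -- some `cᵢ ∈ P`
  have h1 : ∃ i, c i ∈ P := by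
    by_contra hcon
    push Not at hcon
    apply hx1
    have h2 : ∀ i, t i * x * (t i)⁻¹ * x⁻¹ = 1 := by
      intro i
      by_contra hne
      apply hcon i
      have h3 := hk.1 i
      obtain ⟨k, hkk⟩ := Subgroup.mem_zpowers_iff.1 h3
      have h4 : c i ∈ zpowers (t i * x * (t i)⁻¹ * x⁻¹) := by
        have : Fact (Nat.Prime 3) := ⟨Nat.prime_three⟩
        have hcard : Nat.card ↥(zpowers (c i)) = 3 := by rw [Nat.card_zpowers, hc i]
        have h5 := mem_zpowers_of_prime_card (p := 3) hcard (g := (⟨_, h3⟩ : ↥(zpowers (c i))))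
          (g' := ⟨c i, mem_zpowers _⟩) (fun h => hne (congrArg Subtype.val h))
        obtain ⟨m, hm⟩ := Subgroup.mem_zpowers_iff.1 h5
        exact Subgroup.mem_zpowers_iff.2 ⟨m, congrArg Subtype.val hm⟩
      exact (Subgroup.zpowers_le.2 (hmem i)) h4
    rw [hk.2, h2 0, h2 1, h2 2]; simp
  obtain ⟨i, hi'⟩ := h1
  have hstep : ∀ j, c j ∈ P → c (j + 1) ∈ P := by
    intro j hj
    rw [← hτ j]
    exact ((Subgroup.mem_normalizer_iff.1 hτP) (c j)).1 hj
  rw [hE, Subgroup.closure_le]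
  have hall : ∀ j : Fin 3, c j ∈ P := by
    have h6 := hstep i hi'
    have h7 := hstep (i + 1) h6
    intro j
    have h8 : ∀ i j : Fin 3, j = i ∨ j = i + 1 ∨ j = i + 1 + 1 := by decide
    rcases h8 i j with rfl | rfl | rfl <;> assumption
  rintro _ ⟨j, rfl⟩
  exact hall j

end Gen

end Cfsg.Agent.R2.H27.Asm
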