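import Cfsg.Agent.R2.H27.ClsB

/-!
# S5934, assembly: the classes 7 - 12 (helper27)
-/

set_option autoImplicit false

namespace Cfsg.Agent.R2.H27.Asm

open Subgroup
open scoped commutatorElement Pointwise

section Gen

variable {G : Type*} [Group G]

theorem card_map_subtype {M : Subgroup G} (K : Subgroup ↥M) : Nat.card ↥(K.map M.subtype) = Nat.card ↥K :=
  (Nat.card_congr (K.equivMapOfInjective _ M.subtype_injective).toEquiv).symm

theorem normalizer_map_subtype {M : Subgroup G} {K : Subgroup ↥M} (hn : K.Normal) :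
    M ≤ normalizer (K.map M.subtype : Set G) := by
  have h1 := le_normalizer_of_normal (X := K.map M.subtype) (M := M) (by
    rintro _ ⟨x, _, rfl⟩
    exact x.2) (by
      rw [Subgroup.subgroupOf, Subgroup.comap_map_eq_self_of_injective M.subtype_injective]
      exact hn)
  exact h1

theorem map_le_of_le_centralizer {X M : Subgroup G} (hX : X ≤ M) {K : Subgroup ↥M}
    (h : K ≤ centralizer ((X.subgroupOf M : Subgroup ↥M) : Set ↥M)) : K.map M.subtype ≤ centralizer (X : Set G) := by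
  rw [centralizer_subgroupOf hX] at h
  rintro _ ⟨x, hx, rfl⟩
  exact h hx

theorem inf_bot_subgroupOf {X Y M : Subgroup G} (hX : X ≤ M) (hY : Y ≤ M)
    (h : centralizer (X : Set G) ⊓ centralizer (Y : Set G) = ⊥) :
    centralizer ((X.subgroupOf M : Subgroup ↥M) : Set ↥M) ⊓ centralizer ((Y.subgroupOf M : Subgroup ↥M) : Set ↥M) =
      ⊥ := by
  rw [centralizer_subgroupOf hX, centralizer_subgroupOf hY]
  rw [eq_bot_iff]
  rintro x ⟨h1, h2⟩
  have h3 : (x : G) ∈ centralizer (X : Set G) ⊓ centralizer (Y : Set G) := ⟨h1, h2⟩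
  rw [h, mem_bot] at h3
  exact Subtype.ext h3

theorem le_centralizer_subgroupOf {X Y M : Subgroup G} (hX : X ≤ M)
    (h : Y ≤ centralizer (X : Set G)) : Y.subgroupOf M ≤ centralizer ((X.subgroupOf M : Subgroup ↥M) : Set ↥M) := by
  rw [centralizer_subgroupOf hX]
  exact fun x hx => h hx

theorem le_normalizer_subgroupOf {X Y M : Subgroup G} 
    (h : Y ≤ normalizer (X : Set G)) : Y.subgroupOf M ≤ normalizer ((X.subgroupOf M : Subgroup ↥M) : Set ↥M) := by
  intro x hx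
  rw [Subgroup.mem_normalizer_iff]
  intro y
  exact (Subgroup.mem_normalizer_iff.1 (h hx)) y

theorem le_normalizer_map {Y M : Subgroup G} (hY : Y ≤ M) {B : Subgroup ↥M}
    (h : Y.subgroupOf M ≤ normalizer (B : Set ↥M)) : Y ≤ normalizer (B.map M.subtype : Set G) := by
  have h1 : (Y.subgroupOf M).map M.subtype ≤ normalizer (B.map M.subtype : Set G) := map_le_normalizer _ h
  rwa [Subgroup.subgroupOf_map_subtype, inf_eq_left.2 hY] at h1

theorem eq_subgroupOf_of_map {A M : Subgroup G} {B : Subgroup ↥M} (h : B.map M.subtype = A) :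
    B = A.subgroupOf M := by
  rw [← h, Subgroup.subgroupOf, Subgroup.comap_map_eq_self_of_injective M.subtype_injective]

end Gen

/-! ### class 7 -/

theorem cls7 (h0 : BoxX0) (hP : BoxP6) (hT : BoxT7) (hF : BoxF7) :
    ∃ M : Subgroup G7, Cls 6 M ∧ (pc M ≠ 1 ∧ pc M ∣ 3 ^ 5) ∧ Ex7 19 M ∧ Ex7' 11 M := by
  obtain ⟨X, A, z, hXp, hXq, hXc, hXz, hzX, hz3, hXcz, hCX, h310, h19, hAz, hA3, hCA, hE⟩ := hT
  have hcz : Nat.card ↥(zpowers z) = 3 := by rw [Nat.card_zpowers, hz3]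
  obtain ⟨M, hM, hle⟩ := exists_max' hcz (by decide +kernel) (by decide +kernel)
  have hCM : centralizer {z} ≤ M := by
    refine le_trans ?_ hle
    rw [Subgroup.zpowers_eq_closure, ← Subgroup.centralizer_closure]
    exact Subgroup.centralizer_le_normalizer _
  have hXM : X ≤ M := hXcz.trans hCM
  have h310M : 3 ^ 10 ∣ Nat.card ↥M := h310.trans (dvd_card_of_le hCM)
  have hlo : 2 ^ 15 * 3 ^ 10 * 5 * 7 * 11 ∣ Nat.card ↥M := by
    have h1 : 3 * oU6 ∣ Nat.card ↥M := hXc ▸ dvd_card_of_le hXM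
    have h2 : 2 ^ 15 * 5 * 7 * 11 ∣ Nat.card ↥M := dvd_trans (by decide +kernel) h1
    have h3 := Nat.Coprime.mul_dvd_of_dvd_of_dvd (by decide +kernel) h310M h2
    exact dvd_trans (by decide +kernel) h3
  have hnp : NP M := by
    refine np_of hP hM hlo ?_
    have key : ∀ j : Fin 7, ¬ 2 ^ 15 * 3 ^ 10 * 5 * 7 * 11 ∣ 2 ^ 63 * mm7 j := by decide +kernel
    intro j hj
    exact absurd hj (key j)
  have h1 := hF ↥M (hnp.ctx h0) (X.subgroupOf M) (perfect_subgroupOf hXM hXp) (quasi_subgroupOf hXM hXq)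
    (by rw [card_subgroupOf hXM, hXc]) (by rw [card_center_subgroupOf hXM, hXz])
    ((card_centralizer_dvd hXM).trans hCX) h310M
  refine ⟨M, ⟨hnp, hlo, ?_⟩, ⟨?_, h1.2.1⟩, ⟨A, z, hCM, h19, hAz, hA3, hCA, hE⟩, ⟨X, hXp, ?_, ?_⟩⟩
  · have h5 : Nat.card ↥M ∣ Nat.card G7 := Subgroup.card_subgroup_dvd_card _
    rw [card_G7] at h5
    exact h5
  · intro h2
    exact h1.1 (Subgroup.eq_bot_of_card_eq _ h2)
  · rw [hXc]; decide +kernel
  · exact map_le_of_le_centralizer hXM h1.2.2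

/-! ### class 8 -/

theorem cls8_aux {M : Type} [Group M] [Finite M] (hX1 : BoxX1) {X L : Subgroup M} (hX : IsSimpleGroup ↥X)
    (hXc : Nat.card ↥X = oO8) (hL : IsSimpleGroup ↥L) (hXL : X ≤ L) (hn : L.Normal) (hLc : Nat.card ↥L = oU8)
    (hM : Nat.card M ∣ 2 * oU8) {c : M} (hc : orderOf c = 3) (hcX : c ∈ centralizer (X : Set M)) : False := by
  have h1 : L.index ∣ 2 := by
    have h2 := L.card_mul_index
    rw [← h2, hLc, mul_comm 2] at hM
    exact Nat.dvd_of_mul_dvd_mul_left (by decide +kernel) hM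
  have h3 : c ^ 2 ∈ L := by
    obtain ⟨k, hk⟩ := h1
    rw [hk, pow_mul]
    exact pow_mem (Subgroup.pow_index_mem L c) k
  have h4 : c ∈ L := by
    have h5 : c = (c ^ 2) ^ 2 := by
      rw [← pow_mul]
      have := pow_orderOf_eq_one c
      rw [hc] at this
      rw [show 2 * 2 = 3 + 1 by norm_num, pow_succ, this, one_mul]
    rw [h5]
    exact pow_mem h3 2
  refine hX1 ↥L hL hLc (X.subgroupOf L) (simple_subgroupOf hXL hX) (by rw [card_subgroupOf hXL, hXc]) ⟨c, h4⟩ ?_ ?_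
  · rw [Subgroup.orderOf_mk, hc]
  · rw [centralizer_subgroupOf hXL]
    exact hcX

theorem cls8 (h0 : BoxX0) (hP : BoxP6) (hX1 : BoxX1) (hS : BoxS8) (hF : BoxF8) :
    ∃ M : Subgroup G7, Cls 7 M ∧ (pc M = 27 ∨ (pc M = 1 ∧ Nat.card ↥M ∣ 2 * oFi22)) ∧ (pc M ≠ 1 → Ex8 11 M) := by
  obtain ⟨X, H, c, t, τ, hX, hXc, hCc, hXH, hCH, hτH, hHn, h39, hc, hcc, hPC, hE27, hJ⟩ := hS
  obtain ⟨M, hM, hle⟩ := exists_max' hXc (by decide +kernel) (by decide +kernel)
  have hHM : H ≤ M := hHn.trans hle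
  have hXM : X ≤ M := hXH.trans hHM
  have hCM : centralizer (X : Set G7) ≤ M := hCH.trans hHM
  have h39M : 3 ^ 9 ∣ Nat.card ↥M := h39.trans (dvd_card_of_le hHM)
  have hlo : 2 ^ 12 * 3 ^ 9 * 5 ^ 2 * 7 ∣ Nat.card ↥M := by
    have h1 : oO8 ∣ Nat.card ↥M := hXc ▸ dvd_card_of_le hXM
    have h2 : 2 ^ 12 * 5 ^ 2 * 7 ∣ Nat.card ↥M := dvd_trans (by decide +kernel) h1
    have h3 := Nat.Coprime.mul_dvd_of_dvd_of_dvd (by decide +kernel) h39M h2
    exact dvd_trans (by decide +kernel) h3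
  have hnp : NP M := by
    refine np_of hP hM hlo ?_
    have key : ∀ j : Fin 7, ¬ 2 ^ 12 * 3 ^ 9 * 5 ^ 2 * 7 ∣ 2 ^ 63 * mm7 j := by decide +kernel
    intro j hj
    exact absurd hj (key j)
  have hup : Nat.card ↥M ∣ N7 := by
    have h5 : Nat.card ↥M ∣ Nat.card G7 := Subgroup.card_subgroup_dvd_card _
    rw [card_G7] at h5
    exact h5
  obtain ⟨hF1, hF2⟩ := hF ↥M (hnp.ctx h0) (X.subgroupOf M) (simple_subgroupOf hXM hX)
    (by rw [card_subgroupOf hXM, hXc]) ((card_centralizer_dvd hXM).trans (by rw [hCc])) h39M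
  have hPX : (Cfsg.pCore 3 ↥M).map M.subtype ≤ centralizer (X : Set G7) := map_le_of_le_centralizer hXM hF1
  have hP3 : IsPGroup 3 ↥((Cfsg.pCore 3 ↥M).map M.subtype) := (Cfsg.Agent.Lib.Cores.pCore_isPGroup 3).map _
  have hMP : M ≤ normalizer ((Cfsg.pCore 3 ↥M).map M.subtype : Set G7) :=
    normalizer_map_subtype (Cfsg.Agent.Lib.Cores.pCore_normal 3)
  have hPE := hPC _ hP3 (hCM.trans hMP) hPX
  have hcM : ∀ i, c i ∈ M := fun i => hCM (hc i).2.2.1
  have htM : ∀ i, t i ∈ M := fun i => hCM (hc i).2.2.2.1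
  have hτM : τ ∈ M := hHM hτH
  have hrank := rank3 (c := c) (t := t) (τ := τ) (fun i => (hc i).1) (fun i => (hc i).2.1)
    (fun i => (hc i).2.2.2.2) hcc hPE (fun i => hMP (htM i)) (hMP hτM)
  have hpc : pc M = Nat.card ↥((Cfsg.pCore 3 ↥M).map M.subtype) := (card_map_subtype _).symm
  refine ⟨M, ⟨hnp, hlo, hup⟩, ?_, ?_⟩
  · rcases hrank with h | h
    · right
      rw [h, Subgroup.card_bot] at hpc
      refine ⟨hpc, ?_⟩
      rcases hF2 with h2 | ⟨L, hLn, hLs, hLC, hXL, h3 | h3⟩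
      · exact absurd (Subgroup.eq_bot_of_card_eq _ hpc) h2
      · exfalso
        refine cls8_aux hX1 (X := X.subgroupOf M) (L := L) (simple_subgroupOf hXM hX)
          (by rw [card_subgroupOf hXM, hXc]) hLs hXL hLn h3.1 h3.2 (c := ⟨c 0, hcM 0⟩) ?_ ?_
        · rw [Subgroup.orderOf_mk]; exact (hc 0).1
        · rw [centralizer_subgroupOf hXM]
          exact (hc 0).2.2.1
      · exact h3.2
    · left
      rw [hpc, h, hE27]
  · intro h1 J hJJ hJc
    rcases hrank with h | h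
    · exfalso
      rw [h, Subgroup.card_bot] at hpc
      exact h1 hpc
    · apply hJ J hJJ
      rw [h] at hJc
      intro x hx
      rw [mem_centralizer_iff]
      intro y hy
      have h2 := hJc (Subgroup.subset_closure hy)
      exact ((mem_centralizer_iff.1 h2) x hx).symm

/-! ### class 9 -/

theorem cls9 (h0 : BoxX0) (hP : BoxP6) (hX2 : BoxX2) (hX3 : BoxX3) (hT : BoxT9) (hF : BoxF9) :
    ∃ M : Subgroup G7, Cls 8 M := by
  obtain ⟨X, Y, hX, hXc, hY, hYc, hYX, hXY, h17⟩ := hT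
  obtain ⟨M, hM, hle⟩ := exists_max' hXc (by decide +kernel) (by decide +kernel)
  have hXM : X ≤ M := Subgroup.le_normalizer.trans hle
  have hCM : centralizer (X : Set G7) ≤ M := (Subgroup.centralizer_le_normalizer _).trans hle
  have hYM : Y ≤ M := hYX.trans hCM
  have hd : X ⊓ centralizer (X : Set G7) = ⊥ := inf_centralizer_bot' hX
    (a := 3) (b := 7) (by norm_num) (by norm_num) (by norm_num)
      (by rw [hXc]; decide +kernel) (by rw [hXc]; decide +kernel)
  have hd' : X ⊓ Y = ⊥ := by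
    rw [eq_bot_iff, ← hd]
    exact inf_le_inf_left _ hYX
  have hlo : oTD4 * oL2e ∣ Nat.card ↥M := by
    have := dvd_card_of_le (sup_le hXM hYM)
    rw [card_sup_comm hYX hd', hXc, hYc] at this
    exact this
  have hnp : NP M := by
    refine np_of hP hM hlo ?_
    have key : ∀ j : Fin 7, oTD4 * oL2e ∣ 2 ^ 63 * mm7 j → j = 6 := by decide +kernel
    intro j hj
    obtain rfl := key j hj
    obtain ⟨z, hz, hzo⟩ := hX3 G7 X Y hX hXc hY hYc hYX
    exact notSim6 hP hX2 (sup_le hXM hYM hz) (Or.inl hzo)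
  have hup : Nat.card ↥M ∣ N7 := by
    have h5 : Nat.card ↥M ∣ Nat.card G7 := Subgroup.card_subgroup_dvd_card _
    rw [card_G7] at h5
    exact h5
  obtain ⟨h5, h127⟩ := hF ↥M (hnp.ctx h0) (X.subgroupOf M) (Y.subgroupOf M) (simple_subgroupOf hXM hX)
    (by rw [card_subgroupOf hXM, hXc]) (simple_subgroupOf hYM hY)
    (by rw [card_subgroupOf hYM, hYc]) (le_centralizer_subgroupOf hXM hYX) (inf_bot_subgroupOf hXM hYM hXY)
    (fun h => h17 (h.trans (card_centralizer_dvd hYM)))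
  refine ⟨M, hnp, hlo, ?_⟩
  have h6 : N7 = (5 ^ 2 * 127) * (2 ^ 63 * 3 ^ 11 * 7 ^ 3 * 11 * 13 * 17 * 19 * 31 * 43 * 73) := by
    unfold N7; ring
  rw [h6] at hup
  refine Nat.Coprime.dvd_of_dvd_mul_left ?_ hup
  refine Nat.Coprime.mul_right ?_ ?_
  · refine Nat.Coprime.pow_right _ ?_
    rw [Nat.coprime_comm]
    exact (Nat.Prime.coprime_iff_not_dvd (by norm_num)).2 h5
  · rw [Nat.coprime_comm]
    exact (Nat.Prime.coprime_iff_not_dvd (by norm_num)).2 h127

/-! ### class 10 -/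

theorem cls10 (h0 : BoxX0) (hP : BoxP6) (hT : BoxT10) (hF : BoxF10) : ∃ M : Subgroup G7, Cls 9 M := by
  obtain ⟨X, hX, hXc⟩ := hT
  obtain ⟨M, hM, hle⟩ := exists_max' hXc (by decide +kernel) (by decide +kernel)
  have hXM : X ≤ M := Subgroup.le_normalizer.trans hle
  have hlo : oL128 ∣ Nat.card ↥M := hXc ▸ dvd_card_of_le hXM
  have hnp : NP M := by
    refine np_of hP hM hlo ?_
    have key : ∀ j : Fin 7, ¬ oL128 ∣ 2 ^ 63 * mm7 j := by decide +kernel
    intro j hj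
    exact absurd hj (key j)
  exact ⟨M, hnp, hlo, hF ↥M (hnp.ctx h0) (X.subgroupOf M) (simple_subgroupOf hXM hX)
    (by rw [card_subgroupOf hXM, hXc])⟩

/-! ### class 11 -/

theorem cls11 (h0 : BoxX0) (hP : BoxP6) (hT : BoxT11) (hF : BoxF11) :
    ∃ M : Subgroup G7, Cls 10 M ∧ pc M = 3 ^ 7 := by
  obtain ⟨A, N₀, hAc, hAN, hNn, hNp, hNc, hirr, hCA, hsim⟩ := hT
  obtain ⟨M, hM, hle⟩ := exists_max' hAc (by decide +kernel) (by decide +kernel)
  have hNM : N₀ ≤ M := hNn.trans hle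
  have hAM : A ≤ M := hAN.trans hNM
  have hlo : 3 ^ 7 * oS6 ∣ Nat.card ↥M := hNc ▸ dvd_card_of_le hNM
  have hnp : NP M := by
    refine np_of hP hM hlo ?_
    have key : ∀ j : Fin 7, ¬ 3 ^ 7 * oS6 ∣ 2 ^ 63 * mm7 j := by decide +kernel
    intro j hj
    exact absurd hj (key j)
  have hup : Nat.card ↥M ∣ N7 := by
    have h5 : Nat.card ↥M ∣ Nat.card G7 := Subgroup.card_subgroup_dvd_card _
    rw [card_G7] at h5
    exact h5
  refine ⟨M, ⟨hnp, hlo, hup⟩, ?_⟩
  refine hF ↥M (hnp.ctx h0) (A.subgroupOf M) (N₀.subgroupOf M) (by rw [card_subgroupOf hAM, hAc])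
    (fun x hx => hAN hx) (le_normalizer_subgroupOf hNn) (perfect_subgroupOf hNM hNp)
    (by rw [card_subgroupOf hNM, hNc]) ?_ ?_ ?_
  · intro B hBA hB
    have h1 : B.map M.subtype ≤ A := by
      rintro _ ⟨x, hx, rfl⟩
      exact hBA hx
    rcases hirr _ h1 (le_normalizer_map hNM hB) with h2 | h2
    · left
      exact (Subgroup.map_eq_bot_iff_of_injective B M.subtype_injective).1 h2
    · right
      exact eq_subgroupOf_of_map h2
  · rw [centralizer_subgroupOf hAM, hCA]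
  · intro B hAB hBN hB
    have h1 : B.map M.subtype ≤ N₀ := by
      rintro _ ⟨x, hx, rfl⟩
      exact hBN hx
    have h2 : A ≤ B.map M.subtype := fun x hx => ⟨⟨x, hAM hx⟩, hAB hx, rfl⟩
    rcases hsim _ h2 h1 (le_normalizer_map hNM hB) with h3 | h3
    · left
      exact eq_subgroupOf_of_map h3
    · right
      exact eq_subgroupOf_of_map h3

/-! ### class 12 -/

theorem sim_centralizer {G : Type*} [Group G] {P M : Subgroup G} (hs : Sim P M) (h : ∃ x : G, x ≠ 1 ∧ P ≤ centralizer {x}) :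
    ∃ x : G, x ≠ 1 ∧ M ≤ centralizer {x} := by
  obtain ⟨g, rfl⟩ := hs
  obtain ⟨x, hx, hP⟩ := h
  refine ⟨g * x * g⁻¹, ?_, ?_⟩
  · intro h1
    apply hx
    have : x = g⁻¹ * (g * x * g⁻¹) * g := by group
    rw [this, h1]; group
  · rintro _ ⟨y, hy, rfl⟩
    have h2 : y * x = x * y := mem_centralizer_singleton_iff.1 (hP hy)
    rw [mem_centralizer_singleton_iff]
    show g * y * g⁻¹ * (g * x * g⁻¹) = g * x * g⁻¹ * (g * y * g⁻¹)
    calc g * y * g⁻¹ * (g * x * g⁻¹) = g * (y * x) * g⁻¹ := by group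
      _ = g * (x * y) * g⁻¹ := by rw [h2]
      _ = _ := by group

theorem cls12 (h0 : BoxX0) (hP : BoxP6) (hS : BoxS12) (hF : BoxF12) :
    ∃ M : Subgroup G7, Cls 11 M ∧ pc M = 1 := by
  obtain ⟨X, Y, hX, hXc, hY, hYc, hYX, hXY⟩ := hS
  obtain ⟨M, hM, hle⟩ := exists_max' hXc (by decide +kernel) (by decide +kernel)
  have hXM : X ≤ M := Subgroup.le_normalizer.trans hle
  have hCM : centralizer (X : Set G7) ≤ M := (Subgroup.centralizer_le_normalizer _).trans hle
  have hYM : Y ≤ M := hYX.trans hCM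
  have hd : X ⊓ centralizer (X : Set G7) = ⊥ := inf_centralizer_bot' hX
    (a := 3) (b := 5) (by norm_num) (by norm_num) (by norm_num)
      (by rw [hXc]; decide +kernel) (by rw [hXc]; decide +kernel)
  have hd' : X ⊓ Y = ⊥ := by
    rw [eq_bot_iff, ← hd]
    exact inf_le_inf_left _ hYX
  have hlo : oS6 * oG2 ∣ Nat.card ↥M := by
    have := dvd_card_of_le (sup_le hXM hYM)
    rw [card_sup_comm hYX hd', hXc, hYc] at this
    exact this
  have hnp : NP M := by
    refine np_of hP hM hlo ?_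
    have key : ∀ j : Fin 7, oS6 * oG2 ∣ 2 ^ 63 * mm7 j → j = 0 := by decide +kernel
    intro j hj hs
    obtain rfl := key j hj
    obtain ⟨x, hx, hMx⟩ := sim_centralizer hs Par.P7_zero
    apply hx
    rw [← mem_bot, ← hXY]
    refine ⟨?_, ?_⟩
    · show x ∈ centralizer (X : Set G7)
      rw [mem_centralizer_iff]
      intro y hy
      exact mem_centralizer_singleton_iff.1 (hMx (hXM hy))
    · show x ∈ centralizer (Y : Set G7)
      rw [mem_centralizer_iff]
      intro y hy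
      exact mem_centralizer_singleton_iff.1 (hMx (hYM hy))
  have hup : Nat.card ↥M ∣ N7 := by
    have h5 : Nat.card ↥M ∣ Nat.card G7 := Subgroup.card_subgroup_dvd_card _
    rw [card_G7] at h5
    exact h5
  have h1 := hF ↥M (h0 M) (X.subgroupOf M) (Y.subgroupOf M) (simple_subgroupOf hXM hX)
    (by rw [card_subgroupOf hXM, hXc]) (simple_subgroupOf hYM hY)
    (by rw [card_subgroupOf hYM, hYc]) (le_centralizer_subgroupOf hXM hYX) (inf_bot_subgroupOf hXM hYM hXY)
  refine ⟨M, ⟨hnp, hlo, hup⟩, ?_⟩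
  unfold pc
  rw [h1, Subgroup.card_bot]

end Cfsg.Agent.R2.H27.Asm
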