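import Cfsg.Agent.R2.H27.Box
import Cfsg.Agent.KFacts.RgdFiltChev
import Cfsg.Agent.KFacts.RgdBorelTits
import Cfsg.Agent.KFacts.RgdChevCoord
import Cfsg.Agent.BpExc.RowsUntw
import Cfsg.Agent.H965.XZ.IdxD
import Cfsg.Agent.H35.Poin
import Cfsg.Agent.S1035
import Cfsg.Agent.S1064
import Cfsg.Agent.S0313
import Cfsg.Agent.Tits.ExtAux
import Cfsg.Agent.Lib.Cores

/-!
# S5934, box P: the maximal parabolic subgroups of `E₇(2)` (helper27)
-/

set_option autoImplicit false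

namespace Cfsg.Agent.R2.H27.Par

open CoxeterSystem Cfsg.Agent.ChevalleyStructure.CoxeterGeom Cfsg.Agent.Tits.Roots Cfsg.Agent.Tits.Core
  Cfsg.Agent.Tits.RootComb Cfsg.Agent.Nodes.Comb Cfsg.Agent.Nodes.Reps Cfsg.Agent.Nodes.BNOf
  Cfsg.Agent.Nodes.StabComb Cfsg.Agent.Nodes.Bruhat Cfsg.Agent.Nodes.LeviDec Cfsg.Agent.Nodes.OppDec
open Cfsg.Lie Cfsg.Agent.ChevalleyStructure Cfsg.Agent.ChevalleyStructure.CoxeterGeomTypes
  Cfsg.Agent.ChevalleyStructure.NPerm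
open Cfsg.Agent.Nodes Cfsg.Agent.Nodes.RGDChev Cfsg.Agent.KFacts.RgdBorelTits Cfsg.Agent.KFacts.RgdFilt
open Cfsg.Agent.KFacts.RgdChevCoord (TT XX nc)

/-- the type of `E₇` -/
theorem hp7 : IsType chevE7 7 CoxeterMatrix.E₇ := Cfsg.Agent.BpExc.RowsUntw.e7T

/-- the Weyl group -/
abbrev cs7 := CoxeterMatrix.E₇.toCoxeterSystem
abbrev h7 := hp7.isCartan
abbrev T7 : Subgroup G7 := TT chevE7 (ZMod 2)
abbrev X7 : (Fin 7 → ℤ) → Subgroup G7 := XX chevE7 7 (ZMod 2)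
abbrev n7 : Fin 7 → G7 := nc hp7 (ZMod 2)

instance finW7 : Finite CoxeterMatrix.E₇.Group := finite_W hp7 cs7
instance finG7 : Finite G7 := inferInstance

theorem R7 : RGD cs7 h7 2 T7 n7 X7 := rgd (K := ZMod 2) hp7 cs7 2

theorem G1_top : RGDLib.G1 cs7 h7 X7 = ⊤ := G1_eq_top hp7 cs7

theorem GG_top7 : GG cs7 h7 T7 X7 = ⊤ := GG_eq_top G1_top

theorem gen7 : RGD.B cs7 h7 T7 X7 ⊔ NN cs7 R7.nsys = ⊤ := gen hp7 cs7 2

theorem T7_bot : T7 = ⊥ := by
  have h1 := Cfsg.Agent.S1035.result (F := ZMod 2) (q := 2) (by simp [ZMod.card]) (chevE7, Nat.gcd 2 (2 - 1)) (by simp)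
  have h2 : Nat.card ↥(chevE7.diagonalSubgroup (ZMod 2)) = 1 := by
    simpa using h1
  have h3 : chevE7.diagonalSubgroup (ZMod 2) = ⊥ := Subgroup.card_eq_one.1 h2
  show (chevE7.diagonalSubgroup (ZMod 2)).subgroupOf _ = ⊥
  rw [h3]
  exact Subgroup.bot_subgroupOf _

theorem card_G7 : Nat.card G7 = N7 := by
  have h1 := Cfsg.Agent.S1064.result (F := ZMod 2) (q := 2) (by simp [ZMod.card])
  have h2 : Nat.gcd 2 (2 - 1) = 1 := by decide
  rw [h2, one_mul] at h1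
  rw [h1]
  unfold N7
  norm_num

/-- the `j`-th maximal parabolic subgroup -/
def P7 (j : Fin 7) : Subgroup G7 := PJ cs7 h7 T7 X7 {i | i ≠ j}

theorem n_mem_iff {i : Fin 7} {J : Set (Fin 7)} : n7 i ∈ PJ cs7 h7 T7 X7 J ↔ i ∈ J := by
  have h1 : Cell R7.nsys cs7 h7 X7 (cs7.simple i) (n7 i) :=
    ⟨1, one_mem _, n7 i, rp_simple cs7 R7.nsys i, 1, one_mem _, by group⟩
  rw [cell_mem_PJ_iff R7 h1]
  exact ⟨fun h => Cfsg.Agent.Tits.Ext.mem_of_simple_mem_WJ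
    Cfsg.Agent.Tits.Ext.simple_injective h, fun h => Cfsg.Agent.Tits.Exchange.simple_mem_WJ cs7 h⟩

theorem B_le (j : Fin 7) : RGD.B cs7 h7 T7 X7 ≤ P7 j := B_le_PJ

/-- subgroups containing `B` -/
theorem eq_PJ {K : Subgroup G7} (hK : RGD.B cs7 h7 T7 X7 ≤ K) : K = PJ cs7 h7 T7 X7 {i | n7 i ∈ K} := by
  have h1 := inf_eq_PJ R7 hK
  rwa [GG_top7, inf_top_eq] at h1

theorem isCoatom_P7 (j : Fin 7) : IsCoatom (P7 j) := by
  constructor
  · intro h
    have h1 : n7 j ∈ P7 j := by rw [h]; exact Subgroup.mem_top _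
    exact (n_mem_iff.1 h1) rfl
  · intro K hK
    have h1 := eq_PJ (le_trans (B_le j) hK.le)
    by_cases hj : n7 j ∈ K
    · have h2 : {i | n7 i ∈ K} = Set.univ := by
        rw [Set.eq_univ_iff_forall]
        intro i
        by_cases hi : i = j
        · rw [hi]; exact hj
        · exact hK.le (n_mem_iff.2 hi)
      rw [h1, h2]
      have h3 := eq_PJ (K := ⊤) le_top
      rw [h3]
      congr 1
    · exfalso
      apply hK.not_ge
      rw [h1]
      have h2 : {i | n7 i ∈ K} ⊆ {i | i ≠ j} := by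
        intro i hi h0
        rw [h0] at hi
        exact hj hi
      have h3 : {i | n7 i ∈ K} = {i | i ≠ j} := by
        apply Set.Subset.antisymm h2
        intro i hi
        exact hK.le (n_mem_iff.2 hi)
      rw [h3]
      exact le_refl _

theorem P7_injective : Function.Injective P7 := by
  intro i j hij
  by_contra hne
  have h1 : n7 i ∈ P7 j := n_mem_iff.2 hne
  rw [← hij] at h1
  exact (n_mem_iff.1 h1) rfl

theorem nonconj {i j : Fin 7} {g : G7} (hg : (P7 i).map (MulAut.conj g).toMonoidHom = P7 j) : i = j := by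
  have h1 : g⁻¹ ∈ P7 j := by
    refine Cfsg.Agent.S0313.mem_of_conj_borel_le (R7.bnPair gen7) (P7 j) (B_le j) g⁻¹ ?_
    intro b hb
    rw [← hg]
    exact ⟨b, B_le i hb, by rw [inv_inv]; rfl⟩
  apply P7_injective
  have h2 : P7 i = (P7 j).map (MulAut.conj g⁻¹).toMonoidHom := by
    rw [← hg, Subgroup.map_map]
    have h3 : (MulAut.conj g⁻¹).toMonoidHom.comp (MulAut.conj g).toMonoidHom = MonoidHom.id G7 := by
      ext x
      simp [mul_assoc]
    rw [h3, Subgroup.map_id]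
  rw [h2]
  apply le_antisymm
  · rintro _ ⟨x, hx, rfl⟩
    exact mul_mem (mul_mem h1 hx) (inv_mem h1)
  · intro x hx
    exact ⟨g * x * g⁻¹, by
      have h3 := mul_mem (mul_mem (inv_mem h1) hx) h1
      rwa [inv_inv] at h3, by
      show g⁻¹ * (g * x * g⁻¹) * g⁻¹⁻¹ = x
      group⟩

theorem isCoatom_map {M : Subgroup G7} (hM : IsCoatom M) (g : G7) :
    IsCoatom (M.map (MulAut.conj g).toMonoidHom) := by
  have e : Subgroup G7 ≃o Subgroup G7 := (MulAut.conj g).mapSubgroup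
  have h1 : M.map (MulAut.conj g).toMonoidHom = (MulAut.conj g).mapSubgroup M := rfl
  rw [h1]
  exact (OrderIso.isCoatom_iff _ _).2 hM

/-- **Borel–Tits** for maximal subgroups -/
theorem borelTits {M : Subgroup G7} (hM : IsCoatom M) (h2 : Cfsg.pCore 2 ↥M ≠ ⊥) :
    ∃ (j : Fin 7) (g : G7), M = (P7 j).map (MulAut.conj g).toMonoidHom := by
  set K : Subgroup G7 := (Cfsg.pCore 2 ↥M).map M.subtype with hK
  have hKp : IsPGroup 2 ↥K := (Cfsg.Agent.Lib.Cores.pCore_isPGroup 2).map _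
  have hK1 : K ≠ ⊥ := by
    intro h0
    apply h2
    rwa [hK, Subgroup.map_eq_bot_iff_of_injective _ M.subtype_injective] at h0
  obtain ⟨g, J, hJ, h3, h4⟩ := borel_tits (KFacts.RgdFiltChev.filt (K := ZMod 2) hp7 cs7 2) GG_top7 hKp hK1
  obtain ⟨j, hj⟩ := (Set.ne_univ_iff_exists_notMem J).1 hJ
  refine ⟨j, g, ?_⟩
  have h5 : M ≤ Subgroup.normalizer (K : Set G7) := by
    intro x hx
    rw [Subgroup.mem_normalizer_iff]
    have hn := Cfsg.Agent.Lib.Cores.pCore_normal (G := ↥M) 2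
    intro y
    constructor
    · rintro ⟨z, hz, rfl⟩
      refine ⟨(⟨x, hx⟩ : ↥M) * z * (⟨x, hx⟩ : ↥M)⁻¹, hn.conj_mem z hz ⟨x, hx⟩, ?_⟩
      rw [map_mul, map_mul, map_inv]
      rfl
    · rintro ⟨z, hz, hzy⟩
      refine ⟨(⟨x, hx⟩ : ↥M)⁻¹ * z * (⟨x, hx⟩ : ↥M), ?_, ?_⟩
      · have := hn.conj_mem z hz ((⟨x, hx⟩ : ↥M)⁻¹)
        rwa [inv_inv] at this
      · rw [map_mul, map_mul, map_inv, hzy]
        show x⁻¹ * (x * y * x⁻¹) * x = y
        group
  have h6 : PJ cs7 h7 T7 X7 J ≤ P7 j := by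
    have h7' := eq_PJ (K := PJ cs7 h7 T7 X7 J) B_le_PJ
    have h8 : ∀ i ∈ J, i ≠ j := fun i hi h0 => hj (h0 ▸ hi)
    refine sup_le ?_ (le_trans (VJ_le_B J) (B_le j))
    refine le_trans ?_ (LJ_le_PJ (J := {i | i ≠ j}))
    unfold LJ
    refine sup_le_sup_left (RGD.Sup_mono ?_) _
    rintro x ⟨hx1, hx2⟩
    refine ⟨hx1, fun k hk => hx2 k ?_⟩
    intro h
    exact hk (h8 k h)
  have h7' : M ≤ (P7 j).map (MulAut.conj g).toMonoidHom := by
    refine le_trans h5 (le_trans h4 ?_)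
    exact Subgroup.map_mono h6
  rcases hM.le_iff.1 h7' with h8 | h8
  · exfalso
    exact (isCoatom_map (isCoatom_P7 j) g).1 h8
  · exact h8.symm

end Cfsg.Agent.R2.H27.Par
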