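import Cfsg.Agent.R2.H27.TorB
import Cfsg.Agent.R2.H27.Util

/-!
# S5934, box T11: `3^7 : Sp₆(2)` (helper27)
-/

set_option autoImplicit false
set_option linter.unusedSectionVars false
set_option maxRecDepth 100000

namespace Cfsg.Agent.R2.H27.TorC

open CoxeterSystem Cfsg Cfsg.Lie Cfsg.Lie.ChevalleyDatum
open Cfsg.Agent.ChevalleyStructure Cfsg.Agent.ChevalleyStructure.Elts Cfsg.Agent.ChevalleyStructure.CoxeterGeom
  Cfsg.Agent.ChevalleyStructure.CoxeterGeomTypes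
open Cfsg.Agent.Tits.Roots Cfsg.Agent.Tits.Core Cfsg.Agent.Nodes Cfsg.Agent.Nodes.Reps Cfsg.Agent.Nodes.BNOf
  Cfsg.Agent.Nodes.RGDChev
open Cfsg.Agent.KFacts.RgdField Cfsg.Agent.KFacts.RgdChevCoord Cfsg.Agent.BpExc.TorChev
open Cfsg.Agent.GpExc.Field Cfsg.Agent.H129.TorusChar Cfsg.Agent.H129.TorusMain Cfsg.Agent.H129.TorusUntw
open Cfsg.Agent.R2.H27.Par Cfsg.Agent.R2.H27.WeylE7 Cfsg.Agent.R2.H27.TorB
open scoped commutatorElement

/-! ### irreducibility -/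

/-- the simple coroots -/
def pa (i : Fin 7) : (Fin 7 → ℤ) →+ ℤ where
  toFun x := pairing (cartanOf chevE7 7) i x
  map_zero' := by
    have := pairing_smul (cartanOf chevE7 7) i 0 0
    simpa using this
  map_add' x y := pairing_add _ _ _ _

theorem pa_apply (i : Fin 7) (x : Fin 7 → ℤ) : pa i x = pairing (cartanOf chevE7 7) i x := rfl

theorem pa_sr (i j : Fin 7) : pa i (sr j) = cartanOf chevE7 7 i j := by
  rw [pa_apply, pairing, sr]
  rw [Finset.sum_eq_single j]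
  · rw [Pi.single_eq_same, mul_one]
  · intro k _ hk
    rw [Pi.single_eq_of_ne hk, mul_zero]
  · intro h
    exact absurd (Finset.mem_univ j) h

theorem rep_simple_eq (i : Fin 7) (x : Fin 7 → ℤ) :
    rep cs7 h7 (cs7.simple i) x = x - pa i x • (sr i : Fin 7 → ℤ) := by
  rw [rep_simple, refl_apply, pa_apply, sr, ← Pi.single_smul, smul_eq_mul, mul_one]

/-- the inverse of twice the Cartan matrix -/
def Bi : Fin 7 → Fin 7 → ℤ := ![![4, 4, 6, 8, 6, 4, 2], ![4, 7, 8, 12, 9, 6, 3], ![6, 8, 12, 16, 12, 8, 4],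
    ![8, 12, 16, 24, 18, 12, 6], ![6, 9, 12, 18, 15, 10, 5], ![4, 6, 8, 12, 10, 8, 4],
    ![2, 3, 4, 6, 5, 4, 3]]

theorem Bi_spec : ∀ j k : Fin 7, (∑ i, Bi j i * cartanOf chevE7 7 i k) = if j = k then 2 else 0 := by decide +kernel

theorem hom_ext {f g : (Fin 7 → ℤ) →+ ℤ} (h : ∀ k, f (sr k) = g (sr k)) : f = g := by
  apply AddMonoidHom.ext
  intro x
  rw [Cfsg.Agent.H154.PQE.sum_sr x, map_sum, map_sum]
  refine Finset.sum_congr rfl fun k _ => ?_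
  rw [map_zsmul, map_zsmul, h]

theorem co_sr (j k : Fin 7) : co j (sr k) = if j = k then 1 else 0 := by
  rw [co_apply, sr, Pi.single_apply]

theorem two_co (j : Fin 7) : (2 : ℤ) • co j = ∑ i, Bi j i • pa i := by
  apply hom_ext
  intro k
  rw [AddMonoidHom.smul_apply, co_sr, AddMonoidHom.finsetSum_apply]
  simp only [AddMonoidHom.smul_apply, pa_sr, smul_eq_mul]
  rw [Bi_spec]
  split_ifs <;> norm_num

variable {ζ : KK}

/-- elements of `A7` as functionals -/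
theorem exists_fun (hζ : IsPrimitiveRoot ζ 3) {a : Y7} (ha : a ∈ A7) : ∃ f : (Fin 7 → ℤ) →+ ℤ, ∀ x, cX hp7 a x = ζ ^ f x := by
  have h0 : ζ ≠ 0 := hζ.ne_zero (by norm_num)
  have h1 : ∀ j : Fin 7, ∃ m : ℤ, cX hp7 a (sr j) = ζ ^ m := by
    intro j
    obtain ⟨m, _, hm⟩ := hζ.eq_pow_of_pow_eq_one (ha.2 (sr j))
    exact ⟨m, by rw [zpow_natCast, hm]⟩
  choose m hm using h1
  refine ⟨∑ j, m j • co j, ?_⟩
  have hφ : IsMC (fun x => ζ ^ ((∑ j, m j • co j : (Fin 7 → ℤ) →+ ℤ) x)) :=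
    ⟨by rw [map_zero, zpow_zero], fun x y => by rw [map_add, zpow_add₀ h0]⟩
  refine (isMC_cX hp7 ha.1).ext hφ fun i => ?_
  rw [hm]
  congr 1
  rw [AddMonoidHom.finsetSum_apply]
  simp only [AddMonoidHom.smul_apply, co_sr, smul_eq_mul]
  simp

/-- the functionals belonging to a subgroup -/
def FB (hζ : IsPrimitiveRoot ζ 3) (B : Subgroup Y7) (hB : B ≤ A7) : AddSubgroup ((Fin 7 → ℤ) →+ ℤ) where
  carrier := {f | ∃ t ∈ B, ∀ x, cX hp7 t x = ζ ^ f x}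
  add_mem' := by
    rintro f g ⟨s, hs, h1⟩ ⟨t, ht, h2⟩
    refine ⟨s * t, mul_mem hs ht, fun x => ?_⟩
    rw [cX_mul hp7 (hB hs).1 (hB ht).1, h1, h2, AddMonoidHom.add_apply, zpow_add₀ (hζ.ne_zero (by norm_num))]
  zero_mem' := ⟨1, one_mem _, fun x => by rw [cX_one]; simp⟩
  neg_mem' := by
    rintro f ⟨s, hs, h1⟩
    refine ⟨s⁻¹, inv_mem hs, fun x => ?_⟩
    rw [cX_inv (hB hs).1, h1, AddMonoidHom.neg_apply, zpow_neg]

theorem mem_FB {hζ : IsPrimitiveRoot ζ 3} {B : Subgroup Y7} {hB : B ≤ A7} {f : (Fin 7 → ℤ) →+ ℤ} :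
    f ∈ FB hζ B hB ↔ ∃ t ∈ B, ∀ x, cX hp7 t x = ζ ^ f x := Iff.rfl

theorem three_mem (hζ : IsPrimitiveRoot ζ 3) (B : Subgroup Y7) (hB : B ≤ A7) (f : (Fin 7 → ℤ) →+ ℤ) :
    (3 : ℤ) • f ∈ FB hζ B hB := by
  refine ⟨1, one_mem _, fun x => ?_⟩
  rw [cX_one, AddMonoidHom.smul_apply, smul_eq_mul, zpow_mul]
  have : ζ ^ (3 : ℤ) = 1 := by exact_mod_cast hζ.pow_eq_one
  rw [this, one_zpow]

theorem mem_of_smul (hζ : IsPrimitiveRoot ζ 3) (B : Subgroup Y7) (hB : B ≤ A7) {f : (Fin 7 → ℤ) →+ ℤ} {m : ℤ}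
    (hm : m % 3 ≠ 0) (h : m • f ∈ FB hζ B hB) : f ∈ FB hζ B hB := by
  have h3 := fun k : ℤ => zsmul_mem (three_mem hζ B hB f) k
  have hm' : m % 3 = 1 ∨ m % 3 = 2 := by omega
  rcases hm' with h1 | h1
  · have h2 : f = m • f - (m / 3) • ((3 : ℤ) • f) := by
      rw [smul_smul, ← sub_smul]
      have : m - m / 3 * 3 = 1 := by omega
      rw [this, one_smul]
    rw [h2]
    exact sub_mem h (h3 _)
  · have h2 : f = (m / 3 + 1) • ((3 : ℤ) • f) - m • f := by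
      rw [smul_smul, ← sub_smul]
      have : (m / 3 + 1) * 3 - m = 1 := by omega
      rw [this, one_smul]
    rw [h2]
    exact sub_mem (h3 _) h

theorem step (hζ : IsPrimitiveRoot ζ 3) (B : Subgroup Y7) (hB : B ≤ A7)
    (hn : ∀ w : W7, ∀ t ∈ B, nu w * t * (nu w)⁻¹ ∈ B) {f : (Fin 7 → ℤ) →+ ℤ}
    (hf : f ∈ FB hζ B hB) {i : Fin 7} (hi : f (sr i) % 3 ≠ 0) : pa i ∈ FB hζ B hB := by
  obtain ⟨t, ht, h1⟩ := hf
  have h0 : ζ ≠ 0 := hζ.ne_zero (by norm_num)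
  have hs : (cs7.simple i)⁻¹ = cs7.simple i := cs7.inv_simple i
  have h2 : (-(f (sr i))) • pa i ∈ FB hζ B hB := by
    refine ⟨nu (cs7.simple i) * t * (nu (cs7.simple i))⁻¹ * t⁻¹, mul_mem (hn _ t ht) (inv_mem ht), fun x => ?_⟩
    rw [cX_mul hp7 (nu_TY _ (hB ht).1) (inv_mem (hB ht).1), cX_inv (hB ht).1, cX_nu' _ (hB ht).1, hs, rep_simple_eq,
      h1, h1, ← zpow_neg, ← zpow_add₀ h0]
    congr 1
    rw [map_sub, map_zsmul, AddMonoidHom.smul_apply, smul_eq_mul, smul_eq_mul]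
    ring
  exact mem_of_smul hζ B hB (by omega) h2

theorem adj : ∀ i j : Fin 7, cartanOf chevE7 7 i j = -1 ∨ cartanOf chevE7 7 i j = 0 ∨ cartanOf chevE7 7 i j = 2 := by
  decide +kernel

theorem irr_aux (hζ : IsPrimitiveRoot ζ 3) {B : Subgroup Y7} (hB : B ≤ A7)
    (hn : ∀ w : W7, ∀ t ∈ B, nu w * t * (nu w)⁻¹ ∈ B) (hne : B ≠ ⊥) : A7 ≤ B := by
  -- some coroot
  obtain ⟨b, hb, hb1⟩ : ∃ b ∈ B, b ≠ 1 := by
    obtain ⟨x, hx⟩ := (Subgroup.ne_bot_iff_exists_ne_one).1 hne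
    exact ⟨x.1, x.2, fun h => hx (Subtype.ext h)⟩
  obtain ⟨f, hf⟩ := exists_fun hζ (hB hb)
  have hfB : f ∈ FB hζ B hB := ⟨b, hb, hf⟩
  have h1 : ∃ i, pa i ∈ FB hζ B hB := by
    by_contra hcon
    push Not at hcon
    apply hb1
    refine cX_inj hp7 (hB hb).1 (one_mem _) fun i => ?_
    rw [cX_one, hf, ← zpow_zero ζ, zpow_eq_iff hζ, sub_zero]
    by_contra h
    exact hcon i (step hζ B hB hn hfB h)
  have hadj : ∀ i j, cartanOf chevE7 7 i j = -1 → pa i ∈ FB hζ B hB → pa j ∈ FB hζ B hB := by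
    intro i j hij hi
    refine step hζ B hB hn hi ?_
    rw [pa_sr, hij]
    decide
  obtain ⟨i, hi⟩ := h1
  have h3 : pa 3 ∈ FB hζ B hB := by
    have e02 : cartanOf chevE7 7 0 2 = -1 := by decide +kernel
    have e23 : cartanOf chevE7 7 2 3 = -1 := by decide +kernel
    have e13 : cartanOf chevE7 7 1 3 = -1 := by decide +kernel
    have e43 : cartanOf chevE7 7 4 3 = -1 := by decide +kernel
    have e54 : cartanOf chevE7 7 5 4 = -1 := by decide +kernel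
    have e65 : cartanOf chevE7 7 6 5 = -1 := by decide +kernel
    have hi7 : ∀ i : Fin 7, i = 0 ∨ i = 1 ∨ i = 2 ∨ i = 3 ∨ i = 4 ∨ i = 5 ∨ i = 6 := by decide
    rcases hi7 i with rfl | rfl | rfl | rfl | rfl | rfl | rfl
    · exact hadj 2 3 e23 (hadj 0 2 e02 hi)
    · exact hadj 1 3 e13 hi
    · exact hadj 2 3 e23 hi
    · exact hi
    · exact hadj 4 3 e43 hi
    · exact hadj 4 3 e43 (hadj 5 4 e54 hi)
    · exact hadj 4 3 e43 (hadj 5 4 e54 (hadj 6 5 e65 hi))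
  have hall : ∀ i, pa i ∈ FB hζ B hB := by
    have e20 : cartanOf chevE7 7 2 0 = -1 := by decide +kernel
    have e32 : cartanOf chevE7 7 3 2 = -1 := by decide +kernel
    have e31 : cartanOf chevE7 7 3 1 = -1 := by decide +kernel
    have e34 : cartanOf chevE7 7 3 4 = -1 := by decide +kernel
    have e45 : cartanOf chevE7 7 4 5 = -1 := by decide +kernel
    have e56 : cartanOf chevE7 7 5 6 = -1 := by decide +kernel
    have hi7 : ∀ i : Fin 7, i = 0 ∨ i = 1 ∨ i = 2 ∨ i = 3 ∨ i = 4 ∨ i = 5 ∨ i = 6 := by decide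
    intro i
    rcases hi7 i with rfl | rfl | rfl | rfl | rfl | rfl | rfl
    · exact hadj 2 0 e20 (hadj 3 2 e32 h3)
    · exact hadj 3 1 e31 h3
    · exact hadj 3 2 e32 h3
    · exact h3
    · exact hadj 3 4 e34 h3
    · exact hadj 4 5 e45 (hadj 3 4 e34 h3)
    · exact hadj 5 6 e56 (hadj 4 5 e45 (hadj 3 4 e34 h3))
  have hco : ∀ j, co j ∈ FB hζ B hB := by
    intro j
    refine mem_of_smul hζ B hB (m := 2) (by decide) ?_
    rw [two_co]
    exact sum_mem fun i _ => zsmul_mem (hall i) _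
  have htop : ∀ g : (Fin 7 → ℤ) →+ ℤ, g ∈ FB hζ B hB := by
    intro g
    have : g = ∑ j, g (sr j) • co j := by
      apply hom_ext
      intro k
      rw [AddMonoidHom.finsetSum_apply]
      simp only [AddMonoidHom.smul_apply, co_sr, smul_eq_mul]
      simp
    rw [this]
    exact sum_mem fun i _ => zsmul_mem (hco i) _
  intro a ha
  obtain ⟨g, hg⟩ := exists_fun hζ ha
  obtain ⟨t, ht, h4⟩ := htop g
  have h5 : a = t := cX_inj hp7 ha.1 (hB ht).1 fun i => by rw [hg, h4]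
  rw [h5]
  exact ht


theorem nu_w0 {t : Y7} (ht : t ∈ TY) : nu w0 * t * (nu w0)⁻¹ = t⁻¹ := by
  refine cX_inj hp7 (nu_TY _ ht) (inv_mem ht) fun i => ?_
  have h1 : (w0)⁻¹ = w0 := inv_eq_of_mul_eq_one_left w0_sq
  rw [cX_nu' w0 ht, h1, rep_w0, cX_inv ht, (isMC_cX hp7 ht).neg]

/-- the even part of the Weyl group -/
noncomputable def KW : Subgroup Y7 := Wp.map nu

/-- `3^7 : Sp₆(2)` -/
noncomputable def N0 : Subgroup Y7 := A7 ⊔ KW

theorem nu_norm {B : Subgroup Y7} (hB : B ≤ A7) (hn : KW ≤ Subgroup.normalizer (B : Set Y7)) (w : W7) {t : Y7}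
    (ht : t ∈ B) : nu w * t * (nu w)⁻¹ ∈ B := by
  have key : ∀ w ∈ Wp, ∀ t ∈ B, nu w * t * (nu w)⁻¹ ∈ B := fun w hw t ht =>
    ((Subgroup.mem_normalizer_iff.1 (hn ⟨w, hw, rfl⟩)) t).1 ht
  rcases mem_or w with h | h
  · exact key w h t ht
  · have h1 := key _ h t⁻¹ (inv_mem ht)
    rw [map_mul] at h1
    have h2 : nu w * nu w0 * t⁻¹ * (nu w * nu w0)⁻¹ = nu w * (nu w0 * t⁻¹ * (nu w0)⁻¹) * (nu w)⁻¹ := by group
    rw [h2, nu_w0 (inv_mem (hB ht).1), inv_inv] at h1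
    exact h1

theorem irr {B : Subgroup Y7} (hB : B ≤ A7) (hn : KW ≤ Subgroup.normalizer (B : Set Y7)) : B = ⊥ ∨ B = A7 := by
  by_cases h : B = ⊥
  · exact Or.inl h
  · obtain ⟨ζ, hζ⟩ := exists_zeta
    exact Or.inr (le_antisymm hB (irr_aux hζ hB (fun w t ht => nu_norm hB hn w ht) h))

end Cfsg.Agent.R2.H27.TorC
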