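import Cfsg.Agent.R2.H27.TorB
import Cfsg.Agent.R2.E72T.Gen
import Cfsg.Agent.H351.UnfE7.Desc
import Cfsg.Agent.H194.Pw.Six

/-!
# The twisted Frobenius map of `E₇(4)` (S5934, box T7; helper27)

* `nu : W(E₇) →* E₇(K)`, `K` finite of characteristic 2;
* `tau` : the Frobenius map twisted by the longest element; `P4` : its fixed points;
* `TK_le` : `T(4)` is contained in `P4`, `isoP4`;
* `f6 : SL₆(K) →* E₇(K)`, `f3 : SL₃(K) →* E₇(K)`.
-/

set_option autoImplicit false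
set_option linter.unusedSectionVars false
set_option maxRecDepth 100000

namespace Cfsg.Agent.R2.H27.UsA

open CoxeterSystem Cfsg Cfsg.Lie Cfsg.Lie.ChevalleyDatum
open Cfsg.Agent.ChevalleyStructure Cfsg.Agent.ChevalleyStructure.Elts Cfsg.Agent.ChevalleyStructure.CoxeterGeom
  Cfsg.Agent.ChevalleyStructure.CoxeterGeomTypes
open Cfsg.Agent.Tits.Roots Cfsg.Agent.Tits.Core Cfsg.Agent.Nodes Cfsg.Agent.Nodes.Reps Cfsg.Agent.Nodes.BNOf
  Cfsg.Agent.Nodes.RGDChev Cfsg.Agent.Nodes.Bruhat Cfsg.Agent.Nodes.SubComb Cfsg.Agent.Nodes.NormalForm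
open Cfsg.Agent.KFacts.RgdField Cfsg.Agent.KFacts.RgdChevCoord Cfsg.Agent.BpExc.TorCent Cfsg.Agent.BpExc.TorChev
open Cfsg.Agent.GpExc.Field Cfsg.Agent.BpExc.Tow Cfsg.Agent.BpExc.TowChev Cfsg.Agent.BpExc.Fr
  Cfsg.Agent.H129.TorusChar Cfsg.Agent.H129.TorusMain Cfsg.Agent.H129.TorusUntw
open Cfsg.Agent.R2.H27.Par Cfsg.Agent.R2.H27.WeylE7

section K

variable (K : Type) [Field K] [Fintype K] [CharP K 2]

/-- `E₇(K)` -/
abbrev Y : Type := ↥(chevE7.group K)

/-- the torus -/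
noncomputable abbrev T : Subgroup (Y K) := TT chevE7 K

theorem lfK : LocFin K := fun _ _ => ⟨⊤, inferInstance, fun _ _ => trivial⟩

theorem RK : RGD cs7 h7 2 (T K) (nc hp7 K) (XX chevE7 7 K) := rgd (K := K) hp7 cs7 2

theorem CK : Coords cs7 h7 (T K) (nc hp7 K) (XX chevE7 7 K) (xc hp7) (ch hp7) := coords (K := K) hp7 cs7 2

theorem nsK : NSys CoxeterMatrix.E₇ (T K) (nc hp7 K) := (RK K).nsys

/-- the embedding of `E₇(2)` -/
noncomputable def em : G7 →* Y K := emb hp7.inList (ZMod.castHom (dvd_refl 2) K)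

/-- the embedding of the Weyl group -/
noncomputable def nu : W7 →* Y K := (em K).comp (cs7.lift ⟨n7, TorB.n7_liftable⟩)

variable {K}

theorem nu_simple (i : Fin 7) : nu K (cs7.simple i) = nc hp7 K i := by
  show em K (cs7.lift ⟨n7, TorB.n7_liftable⟩ (cs7.simple i)) = _
  rw [cs7.lift_apply_simple TorB.n7_liftable i]
  exact emb_nc hp7 _ i

theorem rp_nu (w : W7) : Rp cs7 (nsK K) w (nu K w) := by
  obtain ⟨ω, rfl⟩ := cs7.wordProd_surjective w
  induction ω with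
  | nil => rw [CoxeterSystem.wordProd_nil, map_one]; exact rp_one
  | cons i ω ih =>
    rw [CoxeterSystem.wordProd_cons, map_mul, nu_simple]
    exact (rp_simple cs7 (nsK K) i).mul ih

theorem cX_inv {t : Y K} (ht : t ∈ T K) (x : Fin 7 → ℤ) : cX hp7 t⁻¹ x = (cX hp7 t x)⁻¹ := by
  have h1 := cX_mul hp7 (inv_mem ht) ht x
  rw [inv_mul_cancel, cX_one] at h1
  exact eq_inv_of_mul_eq_one_left h1.symm

theorem cX_nu (w : W7) {t : Y K} (ht : t ∈ T K) (x : Fin 7 → ℤ) :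
    cX hp7 (nu K w * t * (nu K w)⁻¹) (rep cs7 h7 w x) = cX hp7 t x :=
  cX_rp hp7 cs7 (lfK K) 2 (rp_nu w) ht x

theorem cX_nu' (w : W7) {t : Y K} (ht : t ∈ T K) (x : Fin 7 → ℤ) :
    cX hp7 (nu K w * t * (nu K w)⁻¹) x = cX hp7 t (rep cs7 h7 w⁻¹ x) := by
  rw [← cX_nu w ht, ← rep_mul_apply, mul_inv_cancel, map_one, Module.End.one_apply]

theorem nu_T (w : W7) {t : Y K} (ht : t ∈ T K) : nu K w * t * (nu K w)⁻¹ ∈ T K :=
  (Subgroup.mem_normalizer_iff.1 (rp_nu w).mem_normalizer t).1 ht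

/-! ### the twisted Frobenius map -/

/-- the Frobenius map -/
noncomputable def ph : Y K →* Y K := emb hp7.inList (iterateFrobenius K 2 1)

theorem ph_nu (w : W7) : ph (nu K w) = nu K w := by
  obtain ⟨ω, rfl⟩ := cs7.wordProd_surjective w
  induction ω with
  | nil => rw [CoxeterSystem.wordProd_nil, map_one, map_one]
  | cons i ω ih =>
    rw [CoxeterSystem.wordProd_cons, map_mul, map_mul, ih, nu_simple]
    congr 1
    exact emb_nc hp7 _ i

/-- the twisted Frobenius map -/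
noncomputable def tau : Y K →* Y K := (MulAut.conj (nu K w0)).toMonoidHom.comp ph

theorem tau_apply (y : Y K) : tau y = nu K w0 * ph y * (nu K w0)⁻¹ := rfl

variable (K) in
/-- its fixed points -/
noncomputable def P4 : Subgroup (Y K) := tau.eqLocus (MonoidHom.id _)

theorem mem_P4 {y : Y K} : y ∈ P4 K ↔ tau y = y := Iff.rfl

theorem nu_mem_P4 (w : W7) : nu K w ∈ P4 K := by
  rw [mem_P4, tau_apply, ph_nu, ← map_inv, ← map_mul, ← map_mul, w0_comm, mul_assoc, mul_inv_cancel, mul_one]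

theorem ph_T {t : Y K} (ht : t ∈ T K) : ph t ∈ T K := emb_T hp7 _ ⟨t, ht, rfl⟩

theorem cX_tau {t : Y K} (ht : t ∈ T K) (x : Fin 7 → ℤ) : cX hp7 (tau t) x = (cX hp7 t x ^ 2)⁻¹ := by
  have h1 : (w0)⁻¹ = w0 := inv_eq_of_mul_eq_one_left w0_sq
  rw [tau_apply, cX_nu' w0 (ph_T ht), h1, rep_w0]
  have h2 : cX hp7 (ph t) (-x) = iterateFrobenius K 2 1 (cX hp7 t (-x)) :=
    Cfsg.Agent.H351.UnfE7.cX_emb hp7 _ ht (-x)
  rw [h2, iterateFrobenius_def, pow_one, (isMC_cX hp7 ht).neg, inv_pow]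

theorem tau_T {t : Y K} (ht : t ∈ T K) : tau t ∈ T K := by
  rw [tau_apply]
  exact nu_T w0 (ph_T ht)

theorem pow_three (hK : Fintype.card K = 4) {a : K} (ha : a ≠ 0) : a ^ 3 = 1 := by
  have h1 := FiniteField.pow_card_sub_one_eq_one a ha
  rwa [hK] at h1

/-- **The torus over the field with four elements is fixed.** -/
theorem T_le (hK : Fintype.card K = 4) : T K ≤ P4 K := by
  intro t ht
  rw [mem_P4]
  refine cX_inj hp7 (tau_T ht) ht fun i => ?_
  rw [cX_tau ht]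
  have h0 := (isMC_cX hp7 ht).ne_zero (sr i)
  have h1 := pow_three hK h0
  rw [pow_succ] at h1
  exact (eq_inv_of_mul_eq_one_right h1).symm

/-- the word of the longest element -/
def w0w : List ℕ := Cfsg.Agent.H154.PQE.w0word.map Fin.val

theorem w0w_lt : ∀ i ∈ w0w, i < chevE7.rank := by decide +kernel

theorem w0w_neg : ∀ s < 126, w0w.foldr chevE7.reflectRoot s = chevE7.neg s := by decide +kernel

theorem neg_neg7 : ∀ s < 126, chevE7.neg (chevE7.neg s) = s := by decide +kernel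

theorem neg_lt7 : ∀ s < 126, chevE7.neg s < 126 := by decide +kernel

theorem coe_nu_wordProd (ω : List (Fin 7)) : (nu K (cs7.wordProd ω) : GL chevE7.Idx K) =
    Cfsg.Agent.H420.PG.nwd hp7.inList (ω.map Fin.val) := by
  induction ω with
  | nil => rw [CoxeterSystem.wordProd_nil, map_one]; rfl
  | cons i ω ih =>
    rw [CoxeterSystem.wordProd_cons, map_mul, Subgroup.coe_mul, ih, nu_simple, List.map_cons]
    rfl

theorem coe_tau (y : Y K) : ((tau y : Y K) : GL chevE7.Idx K) = Cfsg.Agent.R2.E72T.sgk K w0w y := by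
  rw [tau_apply]
  have h1 : (nu K w0 : GL chevE7.Idx K) = Cfsg.Agent.H420.PG.nwd hp7.inList w0w := coe_nu_wordProd _
  rw [Subgroup.coe_mul, Subgroup.coe_mul, Subgroup.coe_inv, h1]
  rfl

theorem P4_map : (P4 K).map (chevE7.group K).subtype = Cfsg.Agent.R2.E72T.Pk K w0w := by
  ext g
  constructor
  · rintro ⟨y, hy, rfl⟩
    refine ⟨y.2, ?_⟩
    have h1 : tau y = y := hy
    have h2 := congrArg Subtype.val h1
    rw [coe_tau] at h2
    exact h2
  · rintro ⟨hg, h1⟩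
    refine ⟨⟨g, hg⟩, ?_, rfl⟩
    apply Subtype.ext
    rw [coe_tau]
    exact h1

theorem isoP4 (hK : Fintype.card K = 4) : Nonempty (↥(P4 K) ≃* G7) := by
  obtain ⟨e⟩ := Cfsg.Agent.R2.E72T.isoPk (K := K) (m := 2) (by norm_num) (by rw [hK]; norm_num) w0w_lt (by
    intro s hs
    rw [Function.iterate_succ_apply, Function.iterate_one]
    show w0w.foldr chevE7.reflectRoot (w0w.foldr chevE7.reflectRoot s) = s
    rw [w0w_neg s hs, w0w_neg _ (neg_lt7 s hs), neg_neg7 s hs])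
  have e2 := (P4 K).equivMapOfInjective (chevE7.group K).subtype (chevE7.group K).subtype_injective
  rw [P4_map] at e2
  exact ⟨e2.trans e⟩

/-- the twisted Frobenius map on the root elements -/
theorem tau_x {r : ℕ} (hr : r < 126) (t : K) :
    tau (xc hp7 (vec chevE7 7 r) t) = xc hp7 (vec chevE7 7 (chevE7.neg r)) (t ^ 2) := by
  apply Subtype.ext
  rw [coe_tau, coe_xc hp7 (show r < chevE7.nroots from hr), coe_xc hp7 (show _ < chevE7.nroots from neg_lt7 r hr)]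
  have h1 := Cfsg.Agent.R2.E72T.sgk_x (k := K) w0w_lt hr t
  rw [w0w_neg r hr] at h1
  exact h1

end K

/-! ### Tables -/

/-- `A₅` -/
def r5 : Fin 6 → Fin 6 → ℕ := ![![0, 0, 1, 2, 3, 7], ![125, 0, 93, 94, 95, 99], ![124, 32, 0, 73, 74, 83],
  ![123, 31, 52, 0, 69, 79], ![122, 30, 51, 56, 0, 78], ![118, 26, 42, 46, 47, 0]]

def s5 : Fin 6 → Fin 6 → ℤ := ![![1, 1, 1, 1, 1, 1], ![1, 1, 1, -1, 1, -1], ![1, 1, 1, 1, -1, 1],
  ![1, -1, 1, 1, 1, 1], ![1, 1, -1, 1, 1, 1], ![1, -1, 1, 1, 1, 1]]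

/-- `A₂` -/
def r2 : Fin 3 → Fin 3 → ℕ := ![![0, 64, 65], ![61, 0, 63], ![60, 62, 0]]

def s2 : Fin 3 → Fin 3 → ℤ := ![![1, 1, -1], ![1, 1, 1], ![-1, 1, 1]]

open Cfsg.Agent.TitsThree.KExcRT Cfsg.Agent.H194.Pw

theorem r5a : RTa chevE7 r5 := by decide +kernel
theorem r5b : RTb chevE7 r5 s5 := by decide +kernel
theorem r5c : RTc chevE7 r5 := by decide +kernel
theorem r5d : RTd s5 := by decide +kernel
theorem r5s : ∀ i j, s5 j i = s5 i j := by decide +kernel
theorem r5n : ∀ i j, i ≠ j → r5 j i = chevE7.neg (r5 i j) := by decide +kernel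

theorem r2a : RTa chevE7 r2 := by decide +kernel
theorem r2b : RTb chevE7 r2 s2 := by decide +kernel
theorem r2c : RTc chevE7 r2 := by decide +kernel
theorem r2d : RTd s2 := by decide +kernel
theorem r2s : ∀ i j, s2 j i = s2 i j := by decide +kernel
theorem r2n : ∀ i j, i ≠ j → r2 j i = chevE7.neg (r2 i j) := by decide +kernel

theorem r5_lt : ∀ i j, r5 i j < 126 := by decide +kernel
theorem r2_lt : ∀ i j, r2 i j < 126 := by decide +kernel

section K

variable (K : Type) [Field K] [Fintype K] [CharP K 2]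

theorem sign_one {s : ℤ} (h : s * s = 1) : (s : K) = 1 := by
  rcases Int.eq_one_or_neg_one_of_mul_eq_one h with h | h
  · rw [h, Int.cast_one]
  · rw [h, Int.cast_neg, Int.cast_one, CharTwo.neg_eq]

theorem exists_f6 : ∃ φ : Matrix.SpecialLinearGroup (Fin 6) K →* Y K, ∀ a b (hab : a ≠ b) (c : K),
    φ (Matrix.SpecialLinearGroup.transvection hab c) = xc hp7 (vec chevE7 7 (r5 a b)) c := by
  obtain ⟨φ, h⟩ := exists_hom_S (K := K) hp7 r5a r5b r5c r5d r5s r5n
  exact ⟨φ, fun a b hab c => by rw [h a b hab c, sign_one K (r5d a b), one_mul]⟩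

theorem exists_f3 : ∃ φ : Matrix.SpecialLinearGroup (Fin 3) K →* Y K, ∀ a b (hab : a ≠ b) (c : K),
    φ (Matrix.SpecialLinearGroup.transvection hab c) = xc hp7 (vec chevE7 7 (r2 a b)) c := by
  obtain ⟨φ, h⟩ := exists_hom_S (K := K) (n := 0) hp7 r2a r2b r2c r2d r2s r2n
  exact ⟨φ, fun a b hab c => by rw [h a b hab c, sign_one K (r2d a b), one_mul]⟩

/-- `SL₆(K) →* E₇(K)` -/
noncomputable def f6 : Matrix.SpecialLinearGroup (Fin 6) K →* Y K := (exists_f6 K).choose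

/-- `SL₃(K) →* E₇(K)` -/
noncomputable def f3 : Matrix.SpecialLinearGroup (Fin 3) K →* Y K := (exists_f3 K).choose

variable {K}

theorem f6_tv {a b : Fin 6} (hab : a ≠ b) (c : K) :
    f6 K (Matrix.SpecialLinearGroup.transvection hab c) = xc hp7 (vec chevE7 7 (r5 a b)) c :=
  (exists_f6 K).choose_spec a b hab c

theorem f3_tv {a b : Fin 3} (hab : a ≠ b) (c : K) :
    f3 K (Matrix.SpecialLinearGroup.transvection hab c) = xc hp7 (vec chevE7 7 (r2 a b)) c :=
  (exists_f3 K).choose_spec a b hab c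

end K

end Cfsg.Agent.R2.H27.UsA
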