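import Cfsg.Agent.R2.H27.UsB
import Cfsg.Agent.R2.E72T.Tws
import Cfsg.Agent.H155.Unit
import Cfsg.Agent.S0249
import Cfsg.Agent.S0283
import Cfsg.Agent.H133.USixMult
import Cfsg.Agent.H372.FxPsuA

/-!
# `3·U₆(2)` in the twisted form of `E₇(4)` (S5934, box T7; helper27)

* `sig` : the unitary Frobenius map of `SL_n(4)`; `tau_f6`, `tau_f3`;
* `f6_injective`, `f3_injective`; `zz` : the element of order 3 in the centre;
* `X6` : the image of `SU₆(2)`, `Y3` : the image of `SU₃(2)`.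
-/

set_option autoImplicit false
set_option linter.unusedSectionVars false
set_option maxRecDepth 100000

namespace Cfsg.Agent.R2.H27.UsC

open CoxeterSystem Cfsg Cfsg.Lie Cfsg.Lie.ChevalleyDatum
open Cfsg.Agent.ChevalleyStructure Cfsg.Agent.ChevalleyStructure.Elts Cfsg.Agent.ChevalleyStructure.CoxeterGeom
  Cfsg.Agent.ChevalleyStructure.CoxeterGeomTypes
open Cfsg.Agent.Tits.Roots Cfsg.Agent.Tits.Core Cfsg.Agent.Nodes Cfsg.Agent.Nodes.Reps Cfsg.Agent.Nodes.BNOf
  Cfsg.Agent.Nodes.RGDChev Cfsg.Agent.Nodes.Bruhat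
open Cfsg.Agent.KFacts.RgdField Cfsg.Agent.KFacts.RgdChevCoord
open Cfsg.Agent.H129.TorusChar
open Cfsg.Agent.H904.E7Form
open Cfsg.Agent.R2.H27.Par Cfsg.Agent.R2.H27.WeylE7 Cfsg.Agent.R2.H27.UsA Cfsg.Agent.R2.H27.UsB
open Matrix (SpecialLinearGroup)
open Subgroup

/-! ### generalities -/

section Gen

/-- a homomorphism of a quasisimple group with centre of order dividing 3 is injective if a central element survives -/
theorem injective_of {S Y : Type*} [Group S] [Finite S] [Group Y] (f : S →* Y)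
    (hs : IsSimpleGroup (S ⧸ center S)) (h3 : Nat.card (center S) ∣ 3) {a b : S} (hab : f a * f b ≠ f b * f a) {s : S}
    (hc1 : f s ≠ 1) (hcc : ∀ g, f g * f s = f s * f g) : Function.Injective f := by
  have hk : f.ker ≤ center S := Cfsg.Agent.R2.E72T.ker_le_center hs hab
  rw [← MonoidHom.ker_eq_bot_iff]
  by_contra hne
  have hk1 : Nat.card f.ker ≠ 1 := fun h => hne (Subgroup.card_eq_one.1 h)
  have hk2 : Nat.card f.ker ∣ Nat.card (center S) := Subgroup.card_dvd_of_le hk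
  have hk3 : Nat.card f.ker = 3 := by
    rcases (Nat.dvd_prime Nat.prime_three).1 (hk2.trans h3) with h | h
    · exact absurd h hk1
    · exact h
  have hk4 : f.ker = center S := by
    refine Subgroup.eq_of_le_of_card_ge hk ?_
    rw [hk3]
    exact Nat.le_of_dvd (by norm_num) h3
  have h1 : (QuotientGroup.mk' (center S) s) ∈ center (S ⧸ center S) := by
    rw [Subgroup.mem_center_iff]
    intro g
    obtain ⟨g, rfl⟩ := QuotientGroup.mk'_surjective (center S) g
    rw [← map_mul, ← map_mul]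
    refine QuotientGroup.eq.2 ?_
    rw [← hk4, MonoidHom.mem_ker, map_mul, map_inv, map_mul, map_mul, hcc g]
    group
  rcases hs.eq_bot_or_eq_top_of_normal (center (S ⧸ center S)) inferInstance with h | h
  · rw [h, Subgroup.mem_bot] at h1
    have h2 : s ∈ center S := (QuotientGroup.eq_one_iff s).1 h1
    rw [← hk4] at h2
    exact hc1 h2
  · have h2 : QuotientGroup.mk' (center S) a ∈ center (S ⧸ center S) := by rw [h]; exact Subgroup.mem_top _
    have h3 := (Subgroup.mem_center_iff.1 h2) (QuotientGroup.mk' (center S) b)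
    rw [← map_mul, ← map_mul] at h3
    have h4 := QuotientGroup.eq.1 h3
    rw [← hk4, MonoidHom.mem_ker, map_mul, map_inv, map_mul, map_mul] at h4
    apply hab
    rw [inv_mul_eq_one] at h4
    exact h4.symm

variable {K : Type} [Field K] [CharP K 2] {n : ℕ}

/-- the unitary Frobenius map -/
noncomputable def sig : SpecialLinearGroup (Fin n) K →* SpecialLinearGroup (Fin n) K where
  toFun g := (SpecialLinearGroup.map (iterateFrobenius K 2 1) g).transpose⁻¹
  map_one' := by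
    rw [map_one]
    have : (1 : SpecialLinearGroup (Fin n) K).transpose = 1 := by
      apply Subtype.ext
      exact Matrix.transpose_one
    rw [this, inv_one]
  map_mul' a b := by
    have : ∀ x y : SpecialLinearGroup (Fin n) K, (x * y).transpose = y.transpose * x.transpose := by
      intro x y
      apply Subtype.ext
      exact Matrix.transpose_mul _ _
    rw [map_mul, this, mul_inv_rev]

theorem sig_apply (g : SpecialLinearGroup (Fin n) K) :
    sig g = (SpecialLinearGroup.map (iterateFrobenius K 2 1) g).transpose⁻¹ := rfl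

theorem sig_tv {a b : Fin n} (hab : a ≠ b) (c : K) :
    sig (SpecialLinearGroup.transvection hab c) = SpecialLinearGroup.transvection hab.symm (c ^ 2) := by
  have h1 : (SpecialLinearGroup.map (iterateFrobenius K 2 1) (SpecialLinearGroup.transvection hab c)).transpose =
      SpecialLinearGroup.transvection hab.symm (c ^ 2) := by
    apply Subtype.ext
    show ((Matrix.transvection a b c).map (iterateFrobenius K 2 1)).transpose = Matrix.transvection b a (c ^ 2)
    ext i j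
    rw [Matrix.transpose_apply, Matrix.map_apply, Matrix.transvection, Matrix.transvection, Matrix.add_apply,
      Matrix.add_apply, map_add]
    congr 1
    · rw [Matrix.one_apply, Matrix.one_apply]
      by_cases h : i = j
      · rw [if_pos h, if_pos h.symm, map_one]
      · rw [if_neg h, if_neg (Ne.symm h), map_zero]
    · rw [Matrix.single_apply, Matrix.single_apply]
      by_cases h : b = i ∧ a = j
      · rw [if_pos h, if_pos ⟨h.2, h.1⟩, iterateFrobenius_def, pow_one]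
      · rw [if_neg h, if_neg (fun h2 => h ⟨h2.2, h2.1⟩), map_zero]
  rw [sig_apply, h1]
  symm
  apply eq_inv_of_mul_eq_one_left
  apply Subtype.ext
  show Matrix.transvection b a (c ^ 2) * Matrix.transvection b a (c ^ 2) = 1
  rw [Matrix.transvection_mul_transvection_same _ _ hab.symm, CharTwo.add_self_eq_zero, Matrix.transvection_zero]

theorem sig_iff [Fintype K] (g : SpecialLinearGroup (Fin n) K) : sig g = g ↔ g ∈ Cfsg.SU n K 2 := by
  rw [Cfsg.Agent.H155.Unit.mem_SU_iff_matrix (iterateFrobenius K 2 1) (fun x => by rw [iterateFrobenius_def, pow_one]) g,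
    sig_apply, inv_eq_iff_mul_eq_one]
  constructor
  · intro h
    have h1 : (SpecialLinearGroup.map (iterateFrobenius K 2 1) g).1.transpose * g.1 = 1 := congrArg Subtype.val h
    have h2 := congrArg Matrix.transpose h1
    rw [Matrix.transpose_mul, Matrix.transpose_transpose, Matrix.transpose_one] at h2
    exact h2
  · intro h
    apply Subtype.ext
    have h1 := congrArg Matrix.transpose h
    rw [Matrix.transpose_mul, Matrix.transpose_transpose, Matrix.transpose_one] at h1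
    exact h1

end Gen

/-! ### the homomorphisms -/

theorem neg5 : ∀ a b : Fin 6, a ≠ b → chevE7.neg (r5 a b) = r5 b a := by decide +kernel
theorem neg2 : ∀ a b : Fin 3, a ≠ b → chevE7.neg (r2 a b) = r2 b a := by decide +kernel

section K

variable {K : Type} [Field K] [Fintype K] [CharP K 2]

theorem tau_f6 (g : SpecialLinearGroup (Fin 6) K) : tau (f6 K g) = f6 K (sig g) := by
  have h1 : (⊤ : Subgroup (SpecialLinearGroup (Fin 6) K)) ≤ (tau.comp (f6 K)).eqLocus ((f6 K).comp sig) := by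
    rw [← Cfsg.Agent.LieClassical.SLGen.closure_transvections, Subgroup.closure_le]
    rintro _ ⟨a, b, hab, c, rfl⟩
    show tau (f6 K _) = f6 K (sig _)
    rw [sig_tv, f6_tv, f6_tv, tau_x (r5_lt a b), neg5 a b hab]
  exact h1 (Subgroup.mem_top g)

theorem tau_f3 (g : SpecialLinearGroup (Fin 3) K) : tau (f3 K g) = f3 K (sig g) := by
  have h1 : (⊤ : Subgroup (SpecialLinearGroup (Fin 3) K)) ≤ (tau.comp (f3 K)).eqLocus ((f3 K).comp sig) := by
    rw [← Cfsg.Agent.LieClassical.SLGen.closure_transvections, Subgroup.closure_le]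
    rintro _ ⟨a, b, hab, c, rfl⟩
    show tau (f3 K _) = f3 K (sig _)
    rw [sig_tv, f3_tv, f3_tv, tau_x (r2_lt a b), neg2 a b hab]
  exact h1 (Subgroup.mem_top g)

/-- reflections -/
noncomputable def n6 {a b : Fin 6} (hab : a ≠ b) : SpecialLinearGroup (Fin 6) K :=
  SpecialLinearGroup.transvection hab 1 * SpecialLinearGroup.transvection hab.symm 1 *
    SpecialLinearGroup.transvection hab 1

/-- torus elements -/
noncomputable def h6 {a b : Fin 6} (hab : a ≠ b) (c : K) : SpecialLinearGroup (Fin 6) K :=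
  SpecialLinearGroup.transvection hab c * SpecialLinearGroup.transvection hab.symm c⁻¹ *
    SpecialLinearGroup.transvection hab c * n6 hab

/-- reflections -/
noncomputable def n3 {a b : Fin 3} (hab : a ≠ b) : SpecialLinearGroup (Fin 3) K :=
  SpecialLinearGroup.transvection hab 1 * SpecialLinearGroup.transvection hab.symm 1 *
    SpecialLinearGroup.transvection hab 1

/-- torus elements -/
noncomputable def h3 {a b : Fin 3} (hab : a ≠ b) (c : K) : SpecialLinearGroup (Fin 3) K :=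
  SpecialLinearGroup.transvection hab c * SpecialLinearGroup.transvection hab.symm c⁻¹ *
    SpecialLinearGroup.transvection hab c * n3 hab

theorem f6_n6 {a b : Fin 6} (hab : a ≠ b) : f6 K (n6 hab) = nN (rv (r5 a b)) := by
  unfold n6 nN
  rw [map_mul, map_mul, f6_tv, f6_tv, ← rv_neg (r5_lt a b), neg5 a b hab]

theorem f6_h6 {a b : Fin 6} (hab : a ≠ b) (c : K) : f6 K (h6 hab c) = hH (rv (r5 a b)) c := by
  unfold h6 hH
  rw [map_mul, map_mul, map_mul, f6_n6, f6_tv, f6_tv, ← rv_neg (r5_lt a b), neg5 a b hab]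

theorem f3_n3 {a b : Fin 3} (hab : a ≠ b) : f3 K (n3 hab) = nN (rv (r2 a b)) := by
  unfold n3 nN
  rw [map_mul, map_mul, f3_tv, f3_tv, ← rv_neg (r2_lt a b), neg2 a b hab]

theorem f3_h3 {a b : Fin 3} (hab : a ≠ b) (c : K) : f3 K (h3 hab c) = hH (rv (r2 a b)) c := by
  unfold h3 hH
  rw [map_mul, map_mul, map_mul, f3_n3, f3_tv, f3_tv, ← rv_neg (r2_lt a b), neg2 a b hab]

/-- torus elements commuting with root elements -/
theorem xc_comm {t : Y K} (ht : t ∈ T K) {r : ℕ} (hr : r < 126) (h : cX hp7 t (rv r) = 1) (c : K) :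
    t * xc hp7 (rv r) c = xc hp7 (rv r) c * t := by
  have h1 := (act hp7 (show r < chevE7.nroots from hr) ht).2 c
  rw [← cX_vec hp7 ht (show r < chevE7.nroots from hr), h, one_mul, mul_inv_eq_iff_eq_mul] at h1
  exact h1

theorem cX_of_comm {t : Y K} (ht : t ∈ T K) {r : ℕ} (hr : r < 126)
    (h : t * xc hp7 (rv r) 1 = xc hp7 (rv r) (1 : K) * t) : cX hp7 t (rv r) = 1 := by
  have h1 := (act hp7 (show r < chevE7.nroots from hr) ht).2 1
  rw [← cX_vec hp7 ht (show r < chevE7.nroots from hr), mul_one, mul_inv_eq_iff_eq_mul, h] at h1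
  have h2 := mul_right_cancel h1
  exact (xc_inj hp7 (show r < chevE7.nroots from hr) h2).symm

theorem f6_commute {y : Y K} (h : ∀ a b : Fin 6, a ≠ b → ∀ c : K, xc hp7 (rv (r5 a b)) c * y = y * xc hp7 (rv (r5 a b)) c)
    (g : SpecialLinearGroup (Fin 6) K) : f6 K g * y = y * f6 K g :=
  Cfsg.Agent.H150.E6T.commute_hom (f6 K) y (fun a b hab c => by rw [f6_tv]; exact h a b hab c) g

theorem f3_commute {y : Y K} (h : ∀ a b : Fin 3, a ≠ b → ∀ c : K, xc hp7 (rv (r2 a b)) c * y = y * xc hp7 (rv (r2 a b)) c)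
    (g : SpecialLinearGroup (Fin 3) K) : f3 K g * y = y * f3 K g :=
  Cfsg.Agent.H150.E6T.commute_hom (f3 K) y (fun a b hab c => by rw [f3_tv]; exact h a b hab c) g

/-! ### the element of order three -/

theorem ne01 : (0 : Fin 6) ≠ 1 := by decide
theorem ne12 : (1 : Fin 6) ≠ 2 := by decide
theorem ne34 : (3 : Fin 6) ≠ 4 := by decide
theorem ne45 : (4 : Fin 6) ≠ 5 := by decide
theorem me01 : (0 : Fin 3) ≠ 1 := by decide
theorem me12 : (1 : Fin 3) ≠ 2 := by decide

/-- the scalar matrix -/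
noncomputable def z6 (ζ : K) : SpecialLinearGroup (Fin 6) K := h6 ne01 ζ * h6 ne12 (ζ ^ 2) * (h6 ne34 ζ * h6 ne45 (ζ ^ 2))

/-- the scalar matrix -/
noncomputable def z3 (ζ : K) : SpecialLinearGroup (Fin 3) K := h3 me01 ζ * h3 me12 (ζ ^ 2)

/-- the functional -/
def fz (x : Fin 7 → ℤ) : ℤ :=
  bf x (rv (r5 0 1)) + 2 * bf x (rv (r5 1 2)) + (bf x (rv (r5 3 4)) + 2 * bf x (rv (r5 4 5)))

def fy (x : Fin 7 → ℤ) : ℤ := bf x (rv (r2 0 1)) + 2 * bf x (rv (r2 1 2))

theorem T_mul {s t : Y K} (hs : s ∈ T K) (ht : t ∈ T K) : s * t ∈ T K := mul_mem hs ht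

theorem z6_mem {ζ : K} (h0 : ζ ≠ 0) : f6 K (z6 ζ) ∈ T K := by
  have h2 := pow_ne_zero 2 h0
  unfold z6
  rw [map_mul, map_mul, map_mul, f6_h6, f6_h6, f6_h6, f6_h6]
  exact T_mul (T_mul (hH_spec (isRoot_rv (r5_lt _ _)) h0).1 (hH_spec (isRoot_rv (r5_lt _ _)) h2).1)
    (T_mul (hH_spec (isRoot_rv (r5_lt _ _)) h0).1 (hH_spec (isRoot_rv (r5_lt _ _)) h2).1)

theorem cX_z6 {ζ : K} (h0 : ζ ≠ 0) (x : Fin 7 → ℤ) : cX hp7 (f6 K (z6 ζ)) x = ζ ^ fz x := by
  have h2 := pow_ne_zero 2 h0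
  have a1 := hH_spec (isRoot_rv (r5_lt 0 1)) h0
  have a2 := hH_spec (isRoot_rv (r5_lt 1 2)) h2
  have a3 := hH_spec (isRoot_rv (r5_lt 3 4)) h0
  have a4 := hH_spec (isRoot_rv (r5_lt 4 5)) h2
  unfold z6
  rw [map_mul, map_mul, map_mul, f6_h6, f6_h6, f6_h6, f6_h6, cX_mul hp7 (T_mul a1.1 a2.1) (T_mul a3.1 a4.1),
    cX_mul hp7 a1.1 a2.1, cX_mul hp7 a3.1 a4.1, a1.2, a2.2, a3.2, a4.2, fz]
  have h3 : ∀ m : ℤ, (ζ ^ 2) ^ m = ζ ^ (2 * m) := fun m => by
    rw [← zpow_natCast, ← zpow_mul, Nat.cast_ofNat]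
  rw [h3, h3, zpow_add₀ h0, zpow_add₀ h0, zpow_add₀ h0]

theorem z3_mem {ζ : K} (h0 : ζ ≠ 0) : f3 K (z3 ζ) ∈ T K := by
  have h2 := pow_ne_zero 2 h0
  unfold z3
  rw [map_mul, f3_h3, f3_h3]
  exact T_mul (hH_spec (isRoot_rv (r2_lt _ _)) h0).1 (hH_spec (isRoot_rv (r2_lt _ _)) h2).1

theorem cX_z3 {ζ : K} (h0 : ζ ≠ 0) (x : Fin 7 → ℤ) : cX hp7 (f3 K (z3 ζ)) x = ζ ^ fy x := by
  have h2 := pow_ne_zero 2 h0
  have a1 := hH_spec (isRoot_rv (r2_lt 0 1)) h0
  have a2 := hH_spec (isRoot_rv (r2_lt 1 2)) h2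
  unfold z3
  rw [map_mul, f3_h3, f3_h3, cX_mul hp7 a1.1 a2.1, a1.2, a2.2, fy]
  have h3 : ∀ m : ℤ, (ζ ^ 2) ^ m = ζ ^ (2 * m) := fun m => by
    rw [← zpow_natCast, ← zpow_mul, Nat.cast_ofNat]
  rw [h3, zpow_add₀ h0]

theorem fz5 : ∀ a b : Fin 6, a ≠ b → fz (rv (r5 a b)) % 3 = 0 := by decide +kernel
theorem fz2 : ∀ a b : Fin 3, a ≠ b → fz (rv (r2 a b)) % 3 = 0 := by decide +kernel
theorem fz_fy : ∀ i : Fin 7, (fz (sr i) - fy (sr i)) % 3 = 0 := by decide +kernel
theorem fz4 : fz (sr 4) % 3 = 2 := by decide +kernel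

/-- roots on which `z` is trivial -/
theorem fz_root : ∀ r ∈ List.range 126, fz (rv r) % 3 = 0 → (∃ a b : Fin 6, a ≠ b ∧ r5 a b = r) ∨
    (∃ a b : Fin 3, a ≠ b ∧ r2 a b = r) := by decide +kernel

theorem zpow_eq_iff {ζ : K} (hζ : IsPrimitiveRoot ζ 3) (a b : ℤ) : ζ ^ a = ζ ^ b ↔ (a - b) % 3 = 0 := by
  have h0 : ζ ≠ 0 := hζ.ne_zero (by norm_num)
  rw [← sub_eq_zero (a := ζ ^ a), ← Int.dvd_iff_emod_eq_zero]
  have h1 := hζ.zpow_eq_one_iff_dvd (a - b)
  rw [zpow_sub₀ h0, div_eq_one_iff_eq (zpow_ne_zero _ h0)] at h1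
  rw [sub_eq_zero]
  exact h1

theorem zpow_one_iff {ζ : K} (hζ : IsPrimitiveRoot ζ 3) (a : ℤ) : ζ ^ a = 1 ↔ a % 3 = 0 := by
  have h1 := zpow_eq_iff hζ a 0
  rwa [zpow_zero, sub_zero] at h1

theorem exists_zeta (hK : Fintype.card K = 4) : ∃ ζ : K, IsPrimitiveRoot ζ 3 := by
  obtain ⟨u, hu⟩ := IsCyclic.exists_ofOrder_eq_natCard (α := Kˣ)
  rw [Nat.card_units, Nat.card_eq_fintype_card, hK] at hu
  have h1 : orderOf (u : K) = 3 := by rw [orderOf_units]; exact hu
  exact ⟨u, by rw [← h1]; exact IsPrimitiveRoot.orderOf _⟩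

variable {ζ : K} (hζ : IsPrimitiveRoot ζ 3)

include hζ

theorem z3_eq : f3 K (z3 ζ) = f6 K (z6 ζ) := by
  have h0 : ζ ≠ 0 := hζ.ne_zero (by norm_num)
  refine cX_inj hp7 (z3_mem h0) (z6_mem h0) fun i => ?_
  rw [cX_z3 h0, cX_z6 h0, zpow_eq_iff hζ]
  have := fz_fy i
  omega

theorem z6_ne : f6 K (z6 ζ) ≠ 1 := by
  have h0 : ζ ≠ 0 := hζ.ne_zero (by norm_num)
  intro h
  have h1 := cX_z6 h0 (sr 4)
  rw [h, cX_one] at h1
  have h2 := (zpow_one_iff hζ _).1 h1.symm
  rw [fz4] at h2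
  omega

theorem z6_pow : f6 K (z6 ζ) ^ 3 = 1 := by
  have h0 : ζ ≠ 0 := hζ.ne_zero (by norm_num)
  refine cX_inj hp7 (pow_mem (z6_mem h0) 3) (one_mem _) fun i => ?_
  rw [cX_pow hp7 (z6_mem h0), cX_z6 h0, cX_one, ← zpow_natCast, ← zpow_mul, mul_comm, zpow_mul, zpow_natCast,
    hζ.pow_eq_one, one_zpow]

theorem z6_order : orderOf (f6 K (z6 ζ)) = 3 := orderOf_eq_prime (z6_pow hζ) (z6_ne hζ)

theorem z6_xc5 {a b : Fin 6} (hab : a ≠ b) (c : K) :
    xc hp7 (rv (r5 a b)) c * f6 K (z6 ζ) = f6 K (z6 ζ) * xc hp7 (rv (r5 a b)) c := by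
  have h0 : ζ ≠ 0 := hζ.ne_zero (by norm_num)
  refine (xc_comm (z6_mem h0) (r5_lt a b) ?_ c).symm
  rw [cX_z6 h0, zpow_one_iff hζ]
  exact fz5 a b hab

theorem z6_xc2 {a b : Fin 3} (hab : a ≠ b) (c : K) :
    xc hp7 (rv (r2 a b)) c * f6 K (z6 ζ) = f6 K (z6 ζ) * xc hp7 (rv (r2 a b)) c := by
  have h0 : ζ ≠ 0 := hζ.ne_zero (by norm_num)
  refine (xc_comm (z6_mem h0) (r2_lt a b) ?_ c).symm
  rw [cX_z6 h0, zpow_one_iff hζ]
  exact fz2 a b hab

/-- `z` commutes with the images -/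
theorem z6_comm6 (g : SpecialLinearGroup (Fin 6) K) : f6 K g * f6 K (z6 ζ) = f6 K (z6 ζ) * f6 K g :=
  f6_commute (fun _ _ hab c => z6_xc5 hζ hab c) g

theorem z6_comm3 (g : SpecialLinearGroup (Fin 3) K) : f3 K g * f6 K (z6 ζ) = f6 K (z6 ζ) * f3 K g :=
  f3_commute (fun _ _ hab c => z6_xc2 hζ hab c) g

theorem simpleSL (n : ℕ) (hn : 3 ≤ n) :
    IsSimpleGroup (SpecialLinearGroup (Fin n) K ⧸ center (SpecialLinearGroup (Fin n) K)) := Cfsg.Agent.S0249.result n hn

omit hζ in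
theorem card_centerSL (hK : Fintype.card K = 4) (n : ℕ) : Nat.card (center (SpecialLinearGroup (Fin n) K)) ∣ 3 := by
  have h1 := Nat.card_congr (Matrix.SpecialLinearGroup.center_equiv_rootsOfUnity (n := Fin n) (R := K)).toEquiv
  have h2 : Nat.card Kˣ = 3 := by rw [Nat.card_units, Nat.card_eq_fintype_card, hK]
  rw [h1, ← h2]
  exact Subgroup.card_subgroup_dvd_card _

theorem root_nc {r : ℕ} (hr : r < 126) (hbf : bf (rv r) (rv r) = 2) :
    hH (rv r) ζ * xc hp7 (rv r) 1 ≠ xc hp7 (rv r) (1 : K) * hH (rv r) ζ := by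
  have h0 : ζ ≠ 0 := hζ.ne_zero (by norm_num)
  intro h
  obtain ⟨h1, h2⟩ := hH_spec (isRoot_rv hr) h0
  have h3 := cX_of_comm h1 hr h
  rw [h2, hbf] at h3
  have h4 := (zpow_one_iff hζ 2).1 h3
  omega

theorem f6_injective (hK : Fintype.card K = 4) : Function.Injective (f6 K) := by
  refine injective_of (f6 K) (Cfsg.Agent.S0249.result 6 (by norm_num)) (card_centerSL hK 6)
    (a := h6 ne01 ζ) (b := SpecialLinearGroup.transvection ne01 1) ?_ (z6_ne hζ) (z6_comm6 hζ)
  rw [f6_h6, f6_tv]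
  exact root_nc hζ (r5_lt 0 1) (by decide +kernel)

theorem f3_injective (hK : Fintype.card K = 4) : Function.Injective (f3 K) := by
  refine injective_of (f3 K) (Cfsg.Agent.S0249.result 3 (by norm_num)) (card_centerSL hK 3)
    (a := h3 me01 ζ) (b := SpecialLinearGroup.transvection me01 1) (s := z3 ζ) ?_ ?_ ?_
  · rw [f3_h3, f3_tv]
    exact root_nc hζ (r2_lt 0 1) (by decide +kernel)
  · rw [z3_eq hζ]
    exact z6_ne hζ
  · intro g
    rw [z3_eq hζ]
    exact z6_comm3 hζ g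

end K

end Cfsg.Agent.R2.H27.UsC
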