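import Cfsg.Agent.R2.H27.UsC
import Cfsg.Agent.R2.H27.TorD

/-!
# The torus, `z` and the centraliser of `z` in the twisted form of `E₇(4)` (S5934, box T7; helper27)

* `cent_T` : `C(T) ≤ T`;
* `eq_zz` : the condition on the cyclic subgroups of the torus normalised by `C(z)`;
* `three_ten` : `3 ^ 10 ∣ |C(z)|`.
-/

set_option autoImplicit false
set_option linter.unusedSectionVars false
set_option maxRecDepth 100000

namespace Cfsg.Agent.R2.H27.UsD

open CoxeterSystem Cfsg Cfsg.Lie Cfsg.Lie.ChevalleyDatum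
open Cfsg.Agent.ChevalleyStructure Cfsg.Agent.ChevalleyStructure.Elts Cfsg.Agent.ChevalleyStructure.CoxeterGeom
  Cfsg.Agent.ChevalleyStructure.CoxeterGeomTypes
open Cfsg.Agent.Tits.Roots Cfsg.Agent.Tits.Core Cfsg.Agent.Nodes Cfsg.Agent.Nodes.Reps Cfsg.Agent.Nodes.BNOf
  Cfsg.Agent.Nodes.RGDChev Cfsg.Agent.Nodes.Bruhat
open Cfsg.Agent.KFacts.RgdField Cfsg.Agent.KFacts.RgdChevCoord
open Cfsg.Agent.H129.TorusChar
open Cfsg.Agent.BpExc.TorChev
open Cfsg.Agent.H904.E7Form
open Cfsg.Agent.R2.H27.Par Cfsg.Agent.R2.H27.WeylE7 Cfsg.Agent.R2.H27.UsA Cfsg.Agent.R2.H27.UsB Cfsg.Agent.R2.H27.UsC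
open Matrix (SpecialLinearGroup)
open Subgroup

/-! ### tables -/

/-- the roots of `A₅ + A₂` -/
def LL : List ℕ := [1, 2, 3, 7, 0, 93, 94, 95, 99, 73, 74, 83, 69, 79, 78, 124, 32, 123, 31, 52, 122, 30, 51, 56, 118,
  26, 42, 46, 47, 125, 64, 65, 61, 63, 60, 62]

theorem LL_cases : ∀ r ∈ LL, (∃ a b : Fin 6, a ≠ b ∧ r5 a b = r) ∨ (∃ a b : Fin 3, a ≠ b ∧ r2 a b = r) := by
  decide +kernel

theorem LL_tab : ∀ r ∈ LL, r < 126 ∧ ∃ r' ∈ LL, bf (rv r') (rv r) = -1 ∧
    ∃ y ∈ List.range 126, bf (rv y) (rv r) = 1 ∧ bf (rv y) (rv r') = 0 := by decide +kernel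

theorem LL_simple : ∀ i : Fin 7, i ≠ 4 → chevE7.simple i ∈ LL := by decide +kernel

theorem fz_simple : ∀ i : Fin 7, i ≠ 4 → fz (sr i) % 3 = 0 := by decide +kernel

section Refl

/-- reflections of simply laced roots -/
def IsRefl (s : W7) (a : Fin 7 → ℤ) : Prop := ∀ x, rep cs7 h7 s x = x - bf x a • a

theorem rep_inj {s t : W7} (h : ∀ x, rep cs7 h7 s x = rep cs7 h7 t x) : s = t :=
  rep_injective cs7 h7 (LinearMap.ext h)

theorem bf_sub' (x y z : Fin 7 → ℤ) : bf (y - z) x = bf y x - bf z x := by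
  have h1 := bf_add' x y (-z)
  have h2 := bf_smul' x z (-1)
  rw [← sub_eq_add_neg] at h1
  rw [h1]
  have h3 : (-1 : ℤ) • z = -z := neg_one_smul _ _
  rw [h3] at h2
  rw [h2]; ring

theorem refl_comm {s t : W7} {a b : Fin 7 → ℤ} (hs : IsRefl s a) (ht : IsRefl t b) (h : bf a b = 0) : Commute s t := by
  apply rep_inj
  intro x
  have h' : bf b a = 0 := by rw [bf_symm]; exact h
  rw [rep_mul_apply, rep_mul_apply, ht, hs, hs, ht, bf_sub', bf_sub', bf_smul', bf_smul', h, h', mul_zero, mul_zero,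
    sub_zero, sub_zero]
  abel

theorem refl_three {s t : W7} {a b : Fin 7 → ℤ} (hs : IsRefl s a) (ht : IsRefl t b) (ha : bf a a = 2) (hb : bf b b = 2)
    (h : bf a b = -1) : (s * t) ^ 3 = 1 := by
  have h' : bf b a = -1 := by rw [bf_symm]; exact h
  have key : ∀ x, rep cs7 h7 (s * t) x = x - (bf x a + bf x b) • a - bf x b • b := by
    intro x
    rw [rep_mul_apply, ht, hs, bf_sub', bf_smul', h']
    module
  have k1 : ∀ x, bf (rep cs7 h7 (s * t) x) a = - bf x a - bf x b := by
    intro x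
    rw [key, bf_sub', bf_sub', bf_smul', bf_smul', ha, h']; ring
  have k2 : ∀ x, bf (rep cs7 h7 (s * t) x) b = bf x a := by
    intro x
    rw [key, bf_sub', bf_sub', bf_smul', bf_smul', hb, h]; ring
  apply rep_inj
  intro x
  rw [pow_succ, pow_two, rep_mul_apply, rep_mul_apply, map_one, Module.End.one_apply]
  set y := rep cs7 h7 (s * t) x with hy
  have e1 := k1 x
  have e2 := k2 x
  rw [← hy] at e1 e2
  have e3 := k1 y
  have e4 := k2 y
  rw [key (rep cs7 h7 (s * t) y), e3, e4, key y, e1, e2, hy, key x]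
  module

theorem refl_fix {s : W7} {a x : Fin 7 → ℤ} (hs : IsRefl s a) (h : bf x a = 0) : rep cs7 h7 s x = x := by
  rw [hs, h, zero_smul, sub_zero]

theorem fix_of_zpowers {c x : W7} (hc : c ^ 3 = 1) (hx : x ∈ zpowers c) (hx1 : x ≠ 1) {v : Fin 7 → ℤ}
    (h : rep cs7 h7 x v = v) : rep cs7 h7 c v = v := by
  have h1 : c ∈ zpowers x := by
    have hc1 : c ≠ 1 := by
      rintro rfl
      rw [zpowers_one_eq_bot, mem_bot] at hx
      exact hx1 hx
    have : Fact (Nat.Prime 3) := ⟨Nat.prime_three⟩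
    have h2 : Nat.card ↥(zpowers c) = 3 := by rw [Nat.card_zpowers, orderOf_eq_prime hc hc1]
    have h3 := mem_zpowers_of_prime_card (p := 3) h2 (g := (⟨x, hx⟩ : ↥(zpowers c)))
      (g' := ⟨c, mem_zpowers c⟩) (fun h => hx1 (congrArg Subtype.val h))
    obtain ⟨n, hn⟩ := mem_zpowers_iff.1 h3
    exact mem_zpowers_iff.2 ⟨n, congrArg Subtype.val hn⟩
  have h2 : ∀ y ∈ zpowers x, rep cs7 h7 y v = v := by
    intro y hy
    have : zpowers x ≤ { carrier := {y | rep cs7 h7 y v = v}
                         one_mem' := by rw [Set.mem_ofPred_eq, map_one, Module.End.one_apply]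
                         mul_mem' := by
                          intro a b ha hb
                          rw [Set.mem_ofPred_eq] at ha hb ⊢
                          rw [rep_mul_apply, hb, ha]
                         inv_mem' := by
                          intro a ha
                          rw [Set.mem_ofPred_eq] at ha ⊢
                          conv_lhs => rw [← ha]
                          exact rep_inv_apply _ _ _ _ : Subgroup W7 } := by
      rw [zpowers_le]
      exact h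
    exact this hy
  exact h2 c h1

theorem root_two : ∀ r ∈ List.range 126, bf (rv r) (rv r) = 2 := by decide +kernel

/-- **A subgroup of order 27 of the Weyl group.** -/
theorem exists_V : ∃ V : Subgroup W7, Nat.card ↥V = 27 ∧ ∀ H : Subgroup W7,
    (∀ s : W7, ∀ r ∈ LL, IsRefl s (rv r) → s ∈ H) → V ≤ H := by
  have hex : ∀ r < 126, ∃ s : W7, IsRefl s (rv r) := by
    intro r hr
    obtain ⟨w, i, hw⟩ := isRoot_rv hr
    refine ⟨w * cs7.simple i * w⁻¹, fun x => ?_⟩
    rw [hw, rep_mul_apply, rep_mul_apply, TorC.rep_simple_eq, map_sub, map_zsmul, TorC.pa_apply, pairing_eq_bf,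
      rep_apply_inv]
    congr 2
    have h2 := Cfsg.Agent.H904.E7Main.bf_rep cs7 w (rep cs7 h7 w⁻¹ x) (sr i)
    rw [← h2]
    congr 1
    exact rep_apply_inv cs7 h7 w x
  obtain ⟨a1, ha1⟩ := hex 0 (by decide)
  obtain ⟨b1, hb1⟩ := hex 93 (by decide)
  obtain ⟨a2, ha2⟩ := hex 69 (by decide)
  obtain ⟨b2, hb2⟩ := hex 78 (by decide)
  obtain ⟨a3, ha3⟩ := hex 64 (by decide)
  obtain ⟨b3, hb3⟩ := hex 63 (by decide)
  have h1 : (a1 * b1) ^ 3 = 1 := refl_three ha1 hb1 (by decide +kernel) (by decide +kernel) (by decide +kernel)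
  have h2 : (a2 * b2) ^ 3 = 1 := refl_three ha2 hb2 (by decide +kernel) (by decide +kernel) (by decide +kernel)
  have h3 : (a3 * b3) ^ 3 = 1 := refl_three ha3 hb3 (by decide +kernel) (by decide +kernel) (by decide +kernel)
  have c12 : Commute (a1 * b1) (a2 * b2) :=
    ((refl_comm ha1 ha2 (by decide +kernel)).mul_right (refl_comm ha1 hb2 (by decide +kernel))).mul_left
      ((refl_comm hb1 ha2 (by decide +kernel)).mul_right (refl_comm hb1 hb2 (by decide +kernel)))
  have c13 : Commute (a1 * b1) (a3 * b3) :=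
    ((refl_comm ha1 ha3 (by decide +kernel)).mul_right (refl_comm ha1 hb3 (by decide +kernel))).mul_left
      ((refl_comm hb1 ha3 (by decide +kernel)).mul_right (refl_comm hb1 hb3 (by decide +kernel)))
  have c23 : Commute (a2 * b2) (a3 * b3) :=
    ((refl_comm ha2 ha3 (by decide +kernel)).mul_right (refl_comm ha2 hb3 (by decide +kernel))).mul_left
      ((refl_comm hb2 ha3 (by decide +kernel)).mul_right (refl_comm hb2 hb3 (by decide +kernel)))
  -- action on roots
  have m1 : rep cs7 h7 (a1 * b1) (rv 93) ≠ rv 93 := by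
    rw [rep_mul_apply, hb1, ha1]
    decide +kernel
  have m2 : rep cs7 h7 (a2 * b2) (rv 78) ≠ rv 78 := by
    rw [rep_mul_apply, hb2, ha2]
    decide +kernel
  have m3 : rep cs7 h7 (a3 * b3) (rv 63) ≠ rv 63 := by
    rw [rep_mul_apply, hb3, ha3]
    decide +kernel
  have f21 : rep cs7 h7 (a2 * b2) (rv 93) = rv 93 := by
    rw [rep_mul_apply, refl_fix hb2 (by decide +kernel), refl_fix ha2 (by decide +kernel)]
  have f13 : rep cs7 h7 (a1 * b1) (rv 63) = rv 63 := by
    rw [rep_mul_apply, refl_fix hb1 (by decide +kernel), refl_fix ha1 (by decide +kernel)]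
  have f23 : rep cs7 h7 (a2 * b2) (rv 63) = rv 63 := by
    rw [rep_mul_apply, refl_fix hb2 (by decide +kernel), refl_fix ha2 (by decide +kernel)]
  have o : ∀ {c : W7} {v : Fin 7 → ℤ}, c ^ 3 = 1 → rep cs7 h7 c v ≠ v → Nat.card ↥(zpowers c) = 3 := by
    intro c v hc hv
    have : Fact (Nat.Prime 3) := ⟨Nat.prime_three⟩
    rw [Nat.card_zpowers, orderOf_eq_prime hc]
    rintro rfl
    exact hv (by rw [map_one, Module.End.one_apply])
  have hfix : ∀ {S : Subgroup W7} {v : Fin 7 → ℤ}, (∀ x ∈ S, rep cs7 h7 x v = v) → ∀ {c : W7}, c ^ 3 = 1 →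
      rep cs7 h7 c v ≠ v → S ⊓ zpowers c = ⊥ := by
    intro S v hS c hc hv
    rw [eq_bot_iff]
    rintro x ⟨hx, hxc⟩
    rw [mem_bot]
    by_contra hne
    exact hv (fix_of_zpowers hc hxc hne (hS x hx))
  have fixS : ∀ v : Fin 7 → ℤ, ∃ F : Subgroup W7, ∀ y, y ∈ F ↔ rep cs7 h7 y v = v := by
    intro v
    refine ⟨{ carrier := {y | rep cs7 h7 y v = v}
              one_mem' := by rw [Set.mem_ofPred_eq, map_one, Module.End.one_apply]
              mul_mem' := by
                intro a b ha hb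
                rw [Set.mem_ofPred_eq] at ha hb ⊢
                rw [rep_mul_apply, hb, ha]
              inv_mem' := by
                intro a ha
                rw [Set.mem_ofPred_eq] at ha ⊢
                conv_lhs => rw [← ha]
                exact rep_inv_apply _ _ _ _ }, fun y => Iff.rfl⟩
  obtain ⟨F93, hF93⟩ := fixS (rv 93)
  obtain ⟨F63, hF63⟩ := fixS (rv 63)
  have i12 : zpowers (a2 * b2) ⊓ zpowers (a1 * b1) = ⊥ := by
    refine hfix (v := rv 93) (fun x hx => ?_) h1 m1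
    have : zpowers (a2 * b2) ≤ F93 := by rw [zpowers_le, hF93]; exact f21
    exact (hF93 x).1 (this hx)
  have n12 : zpowers (a1 * b1) ≤ normalizer ((zpowers (a2 * b2) : Subgroup W7) : Set W7) := by
    refine le_trans ?_ (centralizer_le_normalizer _)
    rw [zpowers_le, mem_centralizer_iff]
    intro x hx
    obtain ⟨n, rfl⟩ := mem_zpowers_iff.1 hx
    exact (c12.zpow_right n).eq.symm
  have card12 : Nat.card ↥(zpowers (a2 * b2) ⊔ zpowers (a1 * b1) : Subgroup W7) = 9 := by
    rw [TorD.card_sup_norm n12 i12, o h2 m2, o h1 m1]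
  have le63 : zpowers (a2 * b2) ⊔ zpowers (a1 * b1) ≤ F63 := by
    refine sup_le ?_ ?_
    · rw [zpowers_le, hF63]; exact f23
    · rw [zpowers_le, hF63]; exact f13
  have i3 : (zpowers (a2 * b2) ⊔ zpowers (a1 * b1)) ⊓ zpowers (a3 * b3) = ⊥ :=
    hfix (v := rv 63) (fun x hx => (hF63 x).1 (le63 hx)) h3 m3
  have cc3 : ∀ x ∈ zpowers (a2 * b2) ⊔ zpowers (a1 * b1), (a3 * b3) * x = x * (a3 * b3) := by
    have : zpowers (a2 * b2) ⊔ zpowers (a1 * b1) ≤ centralizer {a3 * b3} := by
      refine sup_le ?_ ?_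
      · rw [zpowers_le, mem_centralizer_singleton_iff]; exact c23.eq
      · rw [zpowers_le, mem_centralizer_singleton_iff]; exact c13.eq
    intro x hx
    exact (mem_centralizer_singleton_iff.1 (this hx)).symm
  have n3 : zpowers (a3 * b3) ≤ normalizer ((zpowers (a2 * b2) ⊔ zpowers (a1 * b1) : Subgroup W7) : Set W7) := by
    refine le_trans ?_ (centralizer_le_normalizer _)
    rw [zpowers_le, mem_centralizer_iff]
    intro x hx
    exact (cc3 x hx).symm
  refine ⟨zpowers (a2 * b2) ⊔ zpowers (a1 * b1) ⊔ zpowers (a3 * b3), ?_, fun H hH => ?_⟩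
  · rw [TorD.card_sup_norm n3 i3, card12, o h3 m3]
  · refine sup_le (sup_le ?_ ?_) ?_
    · rw [zpowers_le]
      exact mul_mem (hH _ 69 (by decide) ha2) (hH _ 78 (by decide) hb2)
    · rw [zpowers_le]
      exact mul_mem (hH _ 0 (by decide) ha1) (hH _ 93 (by decide) hb1)
    · rw [zpowers_le]
      exact mul_mem (hH _ 64 (by decide) ha3) (hH _ 63 (by decide) hb3)

end Refl

end Cfsg.Agent.R2.H27.UsD
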