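import Cfsg.Agent.R2.H27.UsE

/-!
# The centraliser of `3·U₆(2)` in the twisted form of `E₇(4)` (S5934, box T7; helper27)

* `X6`, `Y3` : the images of `SU₆(2)`, `SU₃(2)`;
* `form_of_cent` : the elements of `C(X6)`; `card_cent` : `|C(X6)| ∣ 2^3 3^4`.
-/

set_option autoImplicit false
set_option linter.unusedSectionVars false
set_option maxRecDepth 100000

namespace Cfsg.Agent.R2.H27.UsF

open CoxeterSystem Cfsg Cfsg.Lie Cfsg.Lie.ChevalleyDatum
open Cfsg.Agent.ChevalleyStructure Cfsg.Agent.ChevalleyStructure.Elts Cfsg.Agent.ChevalleyStructure.CoxeterGeom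
  Cfsg.Agent.ChevalleyStructure.CoxeterGeomTypes
open Cfsg.Agent.Tits.Roots Cfsg.Agent.Tits.Core Cfsg.Agent.Nodes Cfsg.Agent.Nodes.Reps Cfsg.Agent.Nodes.BNOf
  Cfsg.Agent.Nodes.RGDChev Cfsg.Agent.Nodes.Bruhat Cfsg.Agent.Nodes.StabComb Cfsg.Agent.Nodes.NormalForm
open Cfsg.Agent.KFacts.RgdField Cfsg.Agent.KFacts.RgdChevCoord
open Cfsg.Agent.H129.TorusChar
open Cfsg.Agent.BpExc.TorChev Cfsg.Agent.BpExc.TorCent
open Cfsg.Agent.H904.E7Form
open Cfsg.Agent.R2.H27.Par Cfsg.Agent.R2.H27.WeylE7 Cfsg.Agent.R2.H27.UsA Cfsg.Agent.R2.H27.UsB Cfsg.Agent.R2.H27.UsC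
  Cfsg.Agent.R2.H27.UsD Cfsg.Agent.R2.H27.UsE
open Matrix (SpecialLinearGroup)
open Subgroup

/-! ### generalities -/

section Gen

variable {G : Type*} [Group G]

theorem card_sup_mul_inf {A B : Subgroup G} (h : B ≤ normalizer (A : Set G)) :
    Nat.card ↥(A ⊔ B : Subgroup G) * Nat.card ↥(A ⊓ B : Subgroup G) = Nat.card ↥A * Nat.card ↥B := by
  set N := A ⊔ B with hN
  have hAN : A ≤ N := le_sup_left
  have hBN : B ≤ N := le_sup_right
  have hNn : N ≤ normalizer (A : Set G) := sup_le Subgroup.le_normalizer h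
  have hnorm : (A.subgroupOf N).Normal := Subgroup.normal_subgroupOf_of_le_normalizer hNn
  have h1 := relIndex_sup_right (B.subgroupOf N) (A.subgroupOf N)
  have h2 : B.subgroupOf N ⊔ A.subgroupOf N = ⊤ := by
    rw [← Subgroup.subgroupOf_sup hBN hAN, sup_comm, ← hN, Subgroup.subgroupOf_self]
  rw [h2, relIndex_top_right, relIndex_subgroupOf hBN] at h1
  have h3 := (A.subgroupOf N).card_mul_index
  rw [Nat.card_congr (Subgroup.subgroupOfEquivOfLe hAN).toEquiv, h1] at h3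
  have h4 := (A.subgroupOf B).card_mul_index
  have h5 : Nat.card ↥(A.subgroupOf B) = Nat.card ↥(A ⊓ B : Subgroup G) := by
    rw [← Subgroup.inf_subgroupOf_right]
    exact Nat.card_congr (Subgroup.subgroupOfEquivOfLe inf_le_right).toEquiv
  rw [h5] at h4
  have h6 : A.relIndex B = (A.subgroupOf B).index := rfl
  rw [← h3, ← h4, h6]
  ring

theorem card_sup_dvd {A B : Subgroup G} (h : B ≤ normalizer (A : Set G)) :
    Nat.card ↥(A ⊔ B : Subgroup G) ∣ Nat.card ↥A * Nat.card ↥B :=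
  ⟨_, (card_sup_mul_inf h).symm⟩

theorem le_normalizer_inf {H A P : Subgroup G} (h1 : H ≤ normalizer (A : Set G)) (h2 : H ≤ P) :
    H ≤ normalizer ((A ⊓ P : Subgroup G) : Set G) := by
  intro g hg
  rw [mem_normalizer_iff]
  intro x
  have e1 := (mem_normalizer_iff.1 (h1 hg)) x
  have e2 : x ∈ P ↔ g * x * g⁻¹ ∈ P := by
    constructor
    · intro hx
      exact P.mul_mem (P.mul_mem (h2 hg) hx) (P.inv_mem (h2 hg))
    · intro hx
      have := P.mul_mem (P.mul_mem (P.inv_mem (h2 hg)) hx) (h2 hg)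
      have e : g⁻¹ * (g * x * g⁻¹) * g = x := by group
      rwa [e] at this
  exact ⟨fun hx => ⟨e1.1 hx.1, e2.1 hx.2⟩, fun hx => ⟨e1.2 hx.1, e2.2 hx.2⟩⟩

end Gen

/-! ### tables -/

/-- the base of `A₅` -/
def B5 : List ℕ := [0, 93, 73, 69, 78]

theorem B5_LL : ∀ r ∈ B5, r ∈ LL := by decide +kernel

theorem B5_ex : ∀ c ∈ B5, ∃ a b : Fin 6, a ≠ b ∧ r5 a b = c := by decide +kernel

theorem tab_perp : ∀ r ∈ List.range 126, (∀ c ∈ B5, bf (rv r) (rv c) % 3 = 0) → ∃ a b : Fin 3, a ≠ b ∧ r2 a b = r := by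
  decide +kernel

theorem tab_det : ∀ a ∈ B5, ∀ s ∈ List.range 126, (∀ c ∈ B5, (bf (rv s) (rv c) - bf (rv a) (rv c)) % 3 = 0) → s = a := by
  decide +kernel

/-- a dominant vector in the lattice of `A₅` -/
def dom : Fin 7 → ℤ := ![28, 40, 54, 78, 60, 40, 20]

theorem dom_eq : dom = (-20 : ℤ) • rv 0 - (12 : ℤ) • rv 93 - (6 : ℤ) • rv 73 - (2 : ℤ) • rv 69 := by decide +kernel

theorem dom_pair : ∀ i : Fin 7, pairing (cartanOf chevE7 7) i dom = if i = 5 ∨ i = 6 then 0 else 2 := by decide +kernel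

theorem perp56 : ∀ r ∈ List.range 126, (∀ k : Fin 7, k ≠ 5 → k ≠ 6 → rv r k = 0) → ∃ a b : Fin 3, a ≠ b ∧ r2 a b = r := by
  decide +kernel

theorem bf52 : ∀ a b : Fin 6, ∀ c d : Fin 3, a ≠ b → c ≠ d → bf (rv (r5 a b)) (rv (r2 c d)) = 0 := by decide +kernel

theorem cm52 : ∀ a b : Fin 6, ∀ c d : Fin 3, a ≠ b → c ≠ d → r2 c d ≠ r5 a b ∧ r2 c d ≠ chevE7.neg (r5 a b) ∧
    chevE7.commTerms (r5 a b) (r2 c d) = [] := by decide +kernel

section K

variable {K : Type} [Field K] [Fintype K] [CharP K 2]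

/-- the images commute -/
theorem f6_f3 (g : SpecialLinearGroup (Fin 6) K) (g' : SpecialLinearGroup (Fin 3) K) :
    f6 K g * f3 K g' = f3 K g' * f6 K g := by
  refine f6_commute (fun a b hab c => ?_) g
  refine (f3_commute (fun a' b' hab' c' => ?_) g').symm
  obtain ⟨h1, h2, h3⟩ := cm52 a b a' b' hab hab'
  exact (Cfsg.Agent.H150.E6T.xc_commute hp7 (show r5 a b < chevE7.nroots from r5_lt a b)
    (show r2 a' b' < chevE7.nroots from r2_lt a' b') h1 h2 h3 c c').eq.symm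

variable (K) in
/-- the image of `SU₆(2)` -/
noncomputable def X6 : Subgroup (Y K) := (Cfsg.SU 6 K 2).map (f6 K)

variable (K) in
/-- the image of `SU₃(2)` -/
noncomputable def Y3 : Subgroup (Y K) := (Cfsg.SU 3 K 2).map (f3 K)

theorem X6_le : X6 K ≤ P4 K := by
  rintro _ ⟨g, hg, rfl⟩
  rw [mem_P4, tau_f6, (sig_iff g).2 hg]

theorem Y3_le : Y3 K ≤ P4 K := by
  rintro _ ⟨g, hg, rfl⟩
  rw [mem_P4, tau_f3, (sig_iff g).2 hg]

variable {ζ : K} (hζ : IsPrimitiveRoot ζ 3) (hK : Fintype.card K = 4)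

include hζ hK

theorem mem_X6 (g : SpecialLinearGroup (Fin 6) K) : f6 K g ∈ X6 K ↔ f6 K g ∈ P4 K := by
  constructor
  · exact fun h => X6_le h
  · intro h
    rw [mem_P4, tau_f6] at h
    exact ⟨g, (sig_iff g).1 (f6_injective hζ hK h), rfl⟩

theorem mem_Y3 (g : SpecialLinearGroup (Fin 3) K) : f3 K g ∈ Y3 K ↔ f3 K g ∈ P4 K := by
  constructor
  · exact fun h => Y3_le h
  · intro h
    rw [mem_P4, tau_f3] at h
    exact ⟨g, (sig_iff g).1 (f3_injective hζ hK h), rfl⟩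

theorem Y3_eq : Y3 K = (f3 K).range ⊓ P4 K := by
  ext y
  constructor
  · intro hy
    refine ⟨?_, Y3_le hy⟩
    obtain ⟨g, -, rfl⟩ := hy
    exact ⟨g, rfl⟩
  · rintro ⟨⟨g, rfl⟩, h⟩
    exact (mem_Y3 hζ hK g).2 h

theorem hH_mem_X6 {r : ℕ} (hr : r ∈ B5) : hH (rv r) ζ ∈ X6 K := by
  obtain ⟨a, b, hab, rfl⟩ := B5_ex r hr
  have h0 : ζ ≠ 0 := hζ.ne_zero (by norm_num)
  rw [← f6_h6 hab, mem_X6 hζ hK, f6_h6 hab]
  exact T_le hK (hH_spec (isRoot_rv (r5_lt a b)) h0).1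

theorem nN_mem_X6 {r : ℕ} (hr : r ∈ B5) : nN (rv r) ∈ X6 K := by
  obtain ⟨a, b, hab, rfl⟩ := B5_ex r hr
  rw [← f6_n6 hab, mem_X6 hζ hK, f6_n6 hab]
  obtain ⟨s, -, hs⟩ := exists_refl' (K := K) (r5_lt a b)
  rw [← hs]
  exact nu_mem_P4 s

/-- **The elements of the centraliser.** -/
theorem form_of_cent {c : Y K} (hc : c ∈ centralizer (X6 K : Set (Y K))) :
    ∃ t ∈ T K, (∀ r ∈ B5, cX hp7 t (rv r) = 1) ∧ ∃ g, c = t * f3 K g := by
  have h0 : ζ ≠ 0 := hζ.ne_zero (by norm_num)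
  set S : Set (Y K) := {y | ∃ r ∈ B5, y = hH (rv r) ζ} with hSdef
  have hST : S ⊆ T K := by
    rintro _ ⟨r, hr, rfl⟩
    obtain ⟨a, b, -, rfl⟩ := B5_ex r hr
    exact (hH_spec (isRoot_rv (r5_lt a b)) h0).1
  have hcS : c ∈ centralizer S := by
    rw [mem_centralizer_iff]
    rintro _ ⟨r, hr, rfl⟩
    exact mem_centralizer_iff.1 hc _ (hH_mem_X6 hζ hK hr)
  have hcG : c ∈ GG cs7 h7 (T K) (XX chevE7 7 K) := by
    rw [GG_top hp7 cs7]; exact mem_top c
  obtain ⟨u, hu, w, k, hk, hkS, v, hv, hcuv⟩ := mem_centralizer (RK K) hST hcG hcS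
  have hBlt : ∀ r ∈ B5, r < 126 := fun r hr => by
    obtain ⟨a, b, -, rfl⟩ := B5_ex r hr
    exact r5_lt a b
  -- root groups
  have hroot : ∀ x, IsRoot cs7 h7 x → XX chevE7 7 K x ⊓ centralizer S ≤ (f3 K).range := by
    rintro x hx y ⟨hy, hyS⟩
    obtain ⟨r, hr, rfl⟩ := TorB.exists_vec hx
    have hr' := List.mem_range.1 hr
    by_cases hy1 : y = 1
    · rw [hy1]; exact one_mem _
    have h1 : ∀ c ∈ B5, bf (rv r) (rv c) % 3 = 0 := by
      intro c hcB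
      have hcT : hH (rv c) ζ ∈ T K := hST ⟨c, hcB, rfl⟩
      have h2 := mem_Sx_of_centralizer (CK K) (x := hH (rv c) ζ) hcT hx hy hy1 (by
        rw [mem_centralizer_singleton_iff]
        exact (mem_centralizer_iff.1 hyS _ ⟨c, hcB, rfl⟩).symm)
      have h3 : ch hp7 (vec chevE7 7 r) (hH (rv c) ζ) = 1 := h2.2
      rw [← cX_root hp7 cs7 hcT hx, (hH_spec (isRoot_rv (hBlt c hcB)) h0).2, zpow_one_iff hζ] at h3
      exact h3
    obtain ⟨a, b, hab, hab2⟩ := tab_perp r hr h1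
    obtain ⟨d, hd⟩ := (Cfsg.Agent.Nodes.ChevCls.mem_XX hp7 (show r < chevE7.nroots from hr') y).1 hy
    refine ⟨SpecialLinearGroup.transvection hab d, ?_⟩
    rw [f3_tv, hab2, hd]
  have hsup : ∀ y ∈ RGD.Sup (fun x => XX chevE7 7 K x ⊓ centralizer S) (RGD.Pos cs7 h7), y ∈ (f3 K).range := by
    have : RGD.Sup (fun x => XX chevE7 7 K x ⊓ centralizer S) (RGD.Pos cs7 h7) ≤ (f3 K).range :=
      RGD.Sup_le fun x hx => hroot x hx.1
    exact fun y hy => this hy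
  -- the Weyl group element
  have hwfix : ∀ r ∈ B5, rep cs7 h7 w (rv r) = rv r := by
    intro r hr
    have hrr := isRoot_rv (hBlt r hr)
    obtain ⟨s, hs, h2⟩ := TorB.exists_vec (hrr.act w)
    have h3 : s = r := by
      refine tab_det r hr s hs fun c hcB => ?_
      have hcT : hH (rv c) ζ ∈ T K := hST ⟨c, hcB, rfl⟩
      have h4 := chi_of_centralizer (RK K) (CK K) (x := hH (rv c) ζ) hcT hk (by
        rw [mem_centralizer_singleton_iff]
        exact (mem_centralizer_iff.1 hkS _ ⟨c, hcB, rfl⟩).symm) hrr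
      rw [← cX_root hp7 cs7 hcT (hrr.act w), ← cX_root hp7 cs7 hcT hrr, (hH_spec (isRoot_rv (hBlt c hcB)) h0).2,
        (hH_spec (isRoot_rv (hBlt c hcB)) h0).2, zpow_eq_iff hζ, h2] at h4
      exact h4
    rw [h2, h3]
  have hwd : rep cs7 h7 w dom = dom := by
    rw [dom_eq, map_sub, map_sub, map_sub, map_smul, map_smul, map_smul, map_smul, hwfix 0 (by decide),
      hwfix 93 (by decide), hwfix 73 (by decide), hwfix 69 (by decide)]
  have hdom : Dom (cartanOf chevE7 7) dom := by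
    intro i
    rw [dom_pair]
    split_ifs <;> norm_num
  have hwJ := mem_WJ_of_rep hdom hwd
  have hkJ := rp_mem_LJ (RK K) hwJ hk
  have hJ : LJ cs7 h7 (T K) (XX chevE7 7 K) (orth cs7 h7 dom) ≤ T K ⊔ (f3 K).range := by
    refine sup_le_sup_left (RGD.Sup_le ?_) _
    rintro x ⟨hx, hx2⟩
    obtain ⟨r, hr, rfl⟩ := TorB.exists_vec hx
    obtain ⟨a, b, hab, hab2⟩ := perp56 r hr fun k hk5 hk6 => hx2 k (by
      rw [mem_orth, dom_pair, if_neg (by tauto)]; norm_num)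
    intro y hy
    obtain ⟨d, hd⟩ := (Cfsg.Agent.Nodes.ChevCls.mem_XX hp7 (show r < chevE7.nroots from List.mem_range.1 hr) y).1 hy
    refine ⟨SpecialLinearGroup.transvection hab d, ?_⟩
    rw [f3_tv, hab2, hd]
  -- the torus normalises the image
  have hTn : ∀ t ∈ T K, ∀ g, t * f3 K g * t⁻¹ ∈ (f3 K).range := by
    intro t ht g
    have h1 : (⊤ : Subgroup (SpecialLinearGroup (Fin 3) K)) ≤
        (f3 K).range.comap (((MulAut.conj t).toMonoidHom).comp (f3 K)) := by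
      rw [← Cfsg.Agent.LieClassical.SLGen.closure_transvections, Subgroup.closure_le]
      rintro _ ⟨a, b, hab, d, rfl⟩
      show t * f3 K _ * t⁻¹ ∈ (f3 K).range
      rw [f3_tv, (act hp7 (show r2 a b < chevE7.nroots from r2_lt a b) ht).2 d]
      exact ⟨SpecialLinearGroup.transvection hab _, f3_tv hab _⟩
    exact h1 (mem_top g)
  have hcsup : c ∈ T K ⊔ (f3 K).range := by
    rw [hcuv]
    exact mul_mem (mul_mem (le_sup_right (a := T K) (hsup u hu)) (hJ hkJ)) (le_sup_right (a := T K) (hsup v hv))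
  have hTn' : T K ≤ normalizer ((f3 K).range : Set (Y K)) := by
    intro t ht
    rw [mem_normalizer_iff]
    intro y
    constructor
    · rintro ⟨g, rfl⟩
      exact hTn t ht g
    · rintro ⟨g, hg⟩
      have h1 := hTn t⁻¹ (inv_mem ht) g
      rw [hg] at h1
      have e : t⁻¹ * (t * y * t⁻¹) * t⁻¹⁻¹ = y := by group
      rwa [e] at h1
  have hset : c ∈ ((T K ⊔ (f3 K).range : Subgroup (Y K)) : Set (Y K)) := hcsup
  rw [Subgroup.coe_mul_of_left_le_normalizer_right _ _ hTn', Set.mem_mul] at hset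
  obtain ⟨t, ht, y, ⟨g, rfl⟩, hty⟩ := hset
  refine ⟨t, ht, fun r hr => ?_, g, hty.symm⟩
  -- `t` commutes with the reflections
  have h1 : t * nN (rv r) = nN (rv r) * t := by
    have h2 := mem_centralizer_iff.1 hc _ (nN_mem_X6 hζ hK hr)
    obtain ⟨a, b, hab, rfl⟩ := B5_ex r hr
    rw [← hty] at h2
    have h3 : nN (rv (r5 a b)) * f3 K g = f3 K g * nN (rv (r5 a b)) := by rw [← f6_n6 hab]; exact f6_f3 _ _
    have h4 : nN (rv (r5 a b)) * t * f3 K g = t * nN (rv (r5 a b)) * f3 K g := by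
      rw [mul_assoc t, h3, ← mul_assoc, ← h2, mul_assoc]
    exact (mul_right_cancel h4).symm
  obtain ⟨s, hs, hs2⟩ := exists_refl' (K := K) (hBlt r hr)
  have h5 : nu K s * t * (nu K s)⁻¹ = t := by rw [hs2, ← h1, mul_inv_cancel_right]
  have h6 : ∀ x, cX hp7 t (rep cs7 h7 s x) = cX hp7 t x := by
    intro x
    have := cX_nu s ht x
    rwa [h5] at this
  have hrL : r ∈ LL := B5_LL r hr
  obtain ⟨-, r', -, -, y, hy, hy1, -⟩ := LL_tab r hrL
  have h7' := h6 (rv y)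
  rw [hs, hy1, cX_sub ht, zpow_one] at h7'
  have h8 := (isMC_cX hp7 ht).ne_zero (rv y)
  have h9 : (cX hp7 t (rv r))⁻¹ = 1 := mul_left_cancel₀ h8 (by rw [mul_one]; exact h7')
  exact inv_eq_one.1 h9

end K

end Cfsg.Agent.R2.H27.UsF
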