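import Cfsg.Agent.R2.H27.UsF
import Cfsg.Agent.R2.E72T.Cov
import Cfsg.Agent.R2.E72T.BoxT10

/-!
# Box T7 of S5934: `3·U₆(2)` in `E₇(2)` (helper27)
-/

set_option autoImplicit false
set_option linter.unusedSectionVars false
set_option maxRecDepth 100000

namespace Cfsg.Agent.R2.H27.UsG

open CoxeterSystem Cfsg Cfsg.Lie Cfsg.Lie.ChevalleyDatum
open Cfsg.Agent.ChevalleyStructure Cfsg.Agent.ChevalleyStructure.Elts Cfsg.Agent.ChevalleyStructure.CoxeterGeom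
  Cfsg.Agent.ChevalleyStructure.CoxeterGeomTypes
open Cfsg.Agent.Tits.Roots Cfsg.Agent.Tits.Core Cfsg.Agent.Nodes Cfsg.Agent.Nodes.Reps Cfsg.Agent.Nodes.BNOf
  Cfsg.Agent.Nodes.RGDChev Cfsg.Agent.Nodes.Bruhat
open Cfsg.Agent.KFacts.RgdField Cfsg.Agent.KFacts.RgdChevCoord
open Cfsg.Agent.H129.TorusChar
open Cfsg.Agent.BpExc.TorChev Cfsg.Agent.BpExc.TorCent
open Cfsg.Agent.H904.E7Form
open Cfsg.Agent.R2.H27.Par Cfsg.Agent.R2.H27.WeylE7 Cfsg.Agent.R2.H27.UsA Cfsg.Agent.R2.H27.UsB Cfsg.Agent.R2.H27.UsC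
  Cfsg.Agent.R2.H27.UsD Cfsg.Agent.R2.H27.UsE Cfsg.Agent.R2.H27.UsF
open Cfsg.Agent.R2.H27.Asm
open Matrix (SpecialLinearGroup)
open Subgroup

section K

variable {K : Type} [Field K] [Fintype K] [CharP K 2]

variable (K) in
/-- the torus elements centralising `X6` -/
noncomputable def BB : Subgroup (Y K) where
  carrier := {t | t ∈ T K ∧ ∀ r ∈ B5, cX hp7 t (rv r) = 1}
  mul_mem' := by
    rintro a b ⟨ha, ha'⟩ ⟨hb, hb'⟩
    exact ⟨mul_mem ha hb, fun r hr => by rw [cX_mul hp7 ha hb, ha' r hr, hb' r hr, one_mul]⟩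
  one_mem' := ⟨one_mem _, fun r _ => cX_one hp7 _⟩
  inv_mem' := by
    rintro a ⟨ha, ha'⟩
    exact ⟨inv_mem ha, fun r hr => by rw [cX_inv ha, ha' r hr, inv_one]⟩

theorem mem_BB {t : Y K} : t ∈ BB K ↔ t ∈ T K ∧ ∀ r ∈ B5, cX hp7 t (rv r) = 1 := Iff.rfl

theorem rv_sr : rv 93 = sr 0 ∧ rv 78 = sr 1 ∧ rv 73 = sr 2 ∧ rv 69 = sr 3 := by decide +kernel

theorem rv_zero : rv 0 = -((2 : ℤ) • sr 0 + (2 : ℤ) • sr 1 + (3 : ℤ) • sr 2 + (4 : ℤ) • sr 3 + (3 : ℤ) • sr 4 +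
    (2 : ℤ) • sr 5 + sr 6) := by decide +kernel

theorem card_BB (hK : Fintype.card K = 4) : Nat.card ↥(BB K) ∣ 9 := by
  let f : ↥(BB K) →* Kˣ × Kˣ :=
    { toFun := fun t => (Units.mk0 (cX hp7 (t : Y K) (sr 4)) ((isMC_cX hp7 t.2.1).ne_zero _),
        Units.mk0 (cX hp7 (t : Y K) (sr 5)) ((isMC_cX hp7 t.2.1).ne_zero _))
      map_one' := by
        apply Prod.ext <;> apply Units.ext <;> exact cX_one hp7 _
      map_mul' := fun a b => by
        apply Prod.ext <;> apply Units.ext <;> exact cX_mul hp7 a.2.1 b.2.1 _ }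
  have hf : Function.Injective f := by
    intro a b hab
    have h4 : cX hp7 (a : Y K) (sr 4) = cX hp7 (b : Y K) (sr 4) :=
      congrArg (fun p : Kˣ × Kˣ => (p.1 : K)) hab
    have h5 : cX hp7 (a : Y K) (sr 5) = cX hp7 (b : Y K) (sr 5) :=
      congrArg (fun p : Kˣ × Kˣ => (p.2 : K)) hab
    have hv : ∀ t : ↥(BB K), cX hp7 (t : Y K) (sr 0) = 1 ∧ cX hp7 (t : Y K) (sr 1) = 1 ∧ cX hp7 (t : Y K) (sr 2) = 1 ∧
        cX hp7 (t : Y K) (sr 3) = 1 ∧ cX hp7 (t : Y K) (sr 6) = cX hp7 (t : Y K) (sr 5) := by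
      intro t
      obtain ⟨e0, e1, e2, e3⟩ := rv_sr
      have k0 : cX hp7 (t : Y K) (sr 0) = 1 := by rw [← e0]; exact t.2.2 93 (by decide)
      have k1 : cX hp7 (t : Y K) (sr 1) = 1 := by rw [← e1]; exact t.2.2 78 (by decide)
      have k2 : cX hp7 (t : Y K) (sr 2) = 1 := by rw [← e2]; exact t.2.2 73 (by decide)
      have k3 : cX hp7 (t : Y K) (sr 3) = 1 := by rw [← e3]; exact t.2.2 69 (by decide)
      refine ⟨k0, k1, k2, k3, ?_⟩
      have k := t.2.2 0 (by decide)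
      have hM := isMC_cX hp7 t.2.1
      rw [rv_zero, hM.neg, hM.add, hM.add, hM.add, hM.add, hM.add, hM.add, hM.zsmul, hM.zsmul, hM.zsmul, hM.zsmul,
        hM.zsmul, hM.zsmul, k0, k1, k2, k3] at k
      simp only [one_zpow, one_mul] at k
      have c4 : cX hp7 (t : Y K) (sr 4) ^ (3 : ℤ) = 1 := by exact_mod_cast pow_three_T hK t.2.1 (sr 4)
      have c5 : cX hp7 (t : Y K) (sr 5) ^ (3 : ℤ) = 1 := by exact_mod_cast pow_three_T hK t.2.1 (sr 5)
      rw [c4, one_mul, inv_eq_one] at k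
      have n5 := hM.ne_zero (sr 5)
      have k' : cX hp7 (t : Y K) (sr 5) ^ (2 : ℤ) * cX hp7 (t : Y K) (sr 6) =
          cX hp7 (t : Y K) (sr 5) ^ (2 : ℤ) * cX hp7 (t : Y K) (sr 5) := by
        rw [k, ← zpow_add_one₀ n5]
        exact c5.symm
      exact mul_left_cancel₀ (zpow_ne_zero _ n5) k'
    apply Subtype.ext
    refine cX_inj hp7 a.2.1 b.2.1 fun i => ?_
    obtain ⟨a0, a1, a2, a3, a6⟩ := hv a
    obtain ⟨b0, b1, b2, b3, b6⟩ := hv b
    have hi7 : ∀ i : Fin 7, i = 0 ∨ i = 1 ∨ i = 2 ∨ i = 3 ∨ i = 4 ∨ i = 5 ∨ i = 6 := by decide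
    rcases hi7 i with rfl | rfl | rfl | rfl | rfl | rfl | rfl
    · rw [a0, b0]
    · rw [a1, b1]
    · rw [a2, b2]
    · rw [a3, b3]
    · exact h4
    · exact h5
    · rw [a6, b6, h5]
  have h1 := Subgroup.card_dvd_of_injective f hf
  have h2 : Nat.card (Kˣ × Kˣ) = 9 := by
    rw [Nat.card_prod, Nat.card_units, Nat.card_eq_fintype_card, hK]
  rwa [h2] at h1

variable {ζ : K} (hζ : IsPrimitiveRoot ζ 3) (hK : Fintype.card K = 4)

include hζ hK

theorem card_Y3 : Nat.card ↥(Y3 K) = 216 := by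
  have h1 : Nat.card ↥(Cfsg.SU 3 K 2) = 216 := by
    rw [Cfsg.Agent.H372.FxU.card_three (q := 2) (by rw [hK]; norm_num)]
    norm_num
  rw [← h1]
  exact (Nat.card_congr ((Cfsg.SU 3 K 2).equivMapOfInjective (f3 K) (f3_injective hζ hK)).toEquiv).symm

omit hζ hK in
theorem T_norm3 : T K ≤ normalizer ((f3 K).range : Set (Y K)) := by
  have hTn : ∀ t ∈ T K, ∀ g, t * f3 K g * t⁻¹ ∈ (f3 K).range := by
    intro t ht g
    have h1 : (⊤ : Subgroup (SpecialLinearGroup (Fin 3) K)) ≤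
        (f3 K).range.comap (((MulAut.conj t).toMonoidHom).comp (f3 K)) := by
      rw [← Cfsg.Agent.LieClassical.SLGen.closure_transvections, Subgroup.closure_le]
      rintro _ ⟨a, b, hab, d, rfl⟩
      show t * f3 K _ * t⁻¹ ∈ (f3 K).range
      rw [f3_tv, (act hp7 (show r2 a b < chevE7.nroots from r2_lt a b) ht).2 d]
      exact ⟨SpecialLinearGroup.transvection hab _, f3_tv hab _⟩
    exact h1 (mem_top g)
  intro t ht
  rw [mem_normalizer_iff]
  intro y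
  constructor
  · rintro ⟨g, rfl⟩
    exact hTn t ht g
  · rintro ⟨g, hg⟩
    have h1 := hTn t⁻¹ (inv_mem ht) g
    rw [hg] at h1
    have e : t⁻¹ * (t * y * t⁻¹) * t⁻¹⁻¹ = y := by group
    rwa [e] at h1

omit hζ hK in
theorem fz_B5 : ∀ r ∈ B5, fz (rv r) % 3 = 0 := by decide +kernel

/-- **`|C(X)| ∣ 2^3 3^4`** -/
theorem card_cent : Nat.card ↥(centralizer (X6 K : Set (Y K)) ⊓ P4 K : Subgroup (Y K)) ∣ 2 ^ 3 * 3 ^ 4 := by
  have h0 : ζ ≠ 0 := hζ.ne_zero (by norm_num)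
  have h1 : centralizer (X6 K : Set (Y K)) ⊓ P4 K ≤ Y3 K ⊔ BB K := by
    rintro c ⟨hc, hcP⟩
    obtain ⟨t, ht, ht2, g, rfl⟩ := form_of_cent hζ hK hc
    have h2 : f3 K g ∈ Y3 K := by
      rw [mem_Y3 hζ hK]
      have := (P4 K).mul_mem ((P4 K).inv_mem (T_le hK ht)) hcP
      rwa [inv_mul_cancel_left] at this
    exact mul_mem (le_sup_right (a := Y3 K) (mem_BB.2 ⟨ht, ht2⟩)) (le_sup_left (a := Y3 K) h2)
  have h2 : BB K ≤ normalizer (Y3 K : Set (Y K)) := by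
    rw [Y3_eq hζ hK]
    have h3 : BB K ≤ T K := fun t ht => ht.1
    exact le_normalizer_inf (h3.trans T_norm3) (h3.trans (T_le hK))
  have h3 := card_sup_mul_inf h2
  rw [card_Y3 hζ hK] at h3
  have h4 : 3 ∣ Nat.card ↥(Y3 K ⊓ BB K : Subgroup (Y K)) := by
    have h5 : f6 K (z6 ζ) ∈ Y3 K ⊓ BB K := by
      constructor
      · show f6 K (z6 ζ) ∈ Y3 K
        rw [← z3_eq hζ, mem_Y3 hζ hK, z3_eq hζ]
        exact T_le hK (z6_mem h0)
      · refine ⟨z6_mem h0, fun r hr => ?_⟩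
        rw [cX_z6 h0, zpow_one_iff hζ]
        exact fz_B5 r hr
    have h6 := Subgroup.orderOf_dvd_natCard _ h5
    rwa [z6_order hζ] at h6
  obtain ⟨j, hj⟩ := h4
  obtain ⟨b, hb⟩ := card_BB hK
  have h5 := Subgroup.card_dvd_of_le h1
  refine h5.trans ?_
  rw [hj] at h3
  have h6 : 3 * Nat.card ↥(Y3 K ⊔ BB K : Subgroup (Y K)) ∣ 3 * 648 := by
    refine ⟨j * b, ?_⟩
    have : 3 * 648 = 216 * 9 := by norm_num
    rw [this, hb]
    calc 216 * (Nat.card ↥(BB K) * b) = (216 * Nat.card ↥(BB K)) * b := by ring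
      _ = (Nat.card ↥(Y3 K ⊔ BB K : Subgroup (Y K)) * (3 * j)) * b := by rw [h3]
      _ = 3 * Nat.card ↥(Y3 K ⊔ BB K : Subgroup (Y K)) * (j * b) := by ring
  have h7 := Nat.dvd_of_mul_dvd_mul_left (by norm_num) h6
  norm_num at h7 ⊢
  exact h7

/-! ### `19` does not divide `|C(z)|` -/

omit hζ in
theorem not19_SL (n : ℕ) (hn : n = 6 ∨ n = 3) : ¬ 19 ∣ Nat.card (SpecialLinearGroup (Fin n) K) := by
  intro h
  have h1 : Nat.card (SpecialLinearGroup (Fin n) K) ∣ Nat.card (GL (Fin n) K) :=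
    Subgroup.card_dvd_of_injective SpecialLinearGroup.toGL Matrix.SpecialLinearGroup.toGL_injective
  have h2 := h.trans h1
  rw [Matrix.card_GL_field, hK] at h2
  rcases hn with rfl | rfl
  · revert h2
    decide +kernel
  · revert h2
    decide +kernel

theorem not19 : ¬ 19 ∣ Nat.card ↥(CZ ζ) := by
  have h0 : ζ ≠ 0 := hζ.ne_zero (by norm_num)
  have hzT := z6_mem (K := K) h0
  intro hd
  have : Fact (Nat.Prime 19) := ⟨by norm_num⟩
  obtain ⟨g, hg⟩ := exists_prime_orderOf_dvd_card' 19 hd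
  have hgc : (g : Y K) ∈ centralizer {f6 K (z6 ζ)} := g.2.1
  have hgG : (g : Y K) ∈ GG cs7 h7 (T K) (XX chevE7 7 K) := by
    rw [GG_top hp7 cs7]; exact mem_top _
  have hchi : ∀ a, IsRoot cs7 h7 a → ch hp7 a (f6 K (z6 ζ)) ^ 3 = 1 := by
    intro a ha
    rw [← cX_root hp7 cs7 hzT ha]
    exact pow_three_T hK hzT a
  have hA : ChAdd cs7 h7 (T K) (ch hp7 (K := K)) := chAdd hp7 cs7 2
  obtain ⟨m, hm⟩ := exists_pow_mem (RK K) (CK K) hzT (fun s hs t ht => T_comm' hs ht) hA Nat.prime_three hchi hgG hgc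
  have hord : orderOf ((g : Y K) ^ 3 ^ m) = 19 := by
    rw [Nat.Coprime.orderOf_pow]
    · rw [orderOf_coe, hg]
    · rw [orderOf_coe, hg]
      exact Nat.Coprime.pow_right m (by norm_num)
  have hMM : MM cs7 h7 (XX chevE7 7 K) (ch hp7) (f6 K (z6 ζ)) ≤ (f6 K).range ⊔ (f3 K).range := by
    refine RGD.Sup_le ?_
    rintro x ⟨hx, hx1⟩
    obtain ⟨r, hr, rfl⟩ := TorB.exists_vec hx
    have h3 : fz (rv r) % 3 = 0 := by
      have hx1' : ch hp7 (vec chevE7 7 r) (f6 K (z6 ζ)) = 1 := hx1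
      rw [← cX_root hp7 cs7 hzT hx, cX_z6 h0, zpow_one_iff hζ] at hx1'
      exact hx1'
    intro y hy
    obtain ⟨d, hd⟩ := (Cfsg.Agent.Nodes.ChevCls.mem_XX hp7 (show r < chevE7.nroots from List.mem_range.1 hr) y).1 hy
    rcases fz_root r hr h3 with ⟨a, b, hab, hab2⟩ | ⟨a, b, hab, hab2⟩
    · exact le_sup_left (a := (f6 K).range) ⟨SpecialLinearGroup.transvection hab d, by rw [f6_tv, hab2, hd]⟩
    · exact le_sup_right (a := (f6 K).range) ⟨SpecialLinearGroup.transvection hab d, by rw [f3_tv, hab2, hd]⟩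
  have h5 : Nat.card ↥((f6 K).range ⊔ (f3 K).range : Subgroup (Y K)) ∣
      Nat.card ↥(f6 K).range * Nat.card ↥(f3 K).range := by
    apply card_sup_dvd
    refine le_trans ?_ (centralizer_le_normalizer _)
    rintro _ ⟨g', rfl⟩
    rw [mem_centralizer_iff]
    rintro _ ⟨g, rfl⟩
    exact f6_f3 g g'
  have h6 : Nat.card ↥(f6 K).range ∣ Nat.card (SpecialLinearGroup (Fin 6) K) := Subgroup.card_range_dvd _
  have h7' : Nat.card ↥(f3 K).range ∣ Nat.card (SpecialLinearGroup (Fin 3) K) := Subgroup.card_range_dvd _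
  have h8 := card_sup_dvd (T_le_normalizer_MM (RK K) (CK K) (χ := ch hp7) (x := f6 K (z6 ζ)) hzT)
  have h9 : 19 ∣ Nat.card ↥(MM cs7 h7 (XX chevE7 7 K) (ch hp7) (f6 K (z6 ζ)) ⊔ T K : Subgroup (Y K)) := by
    rw [← hord]
    exact Subgroup.orderOf_dvd_natCard _ hm
  have h10 := h9.trans h8
  rcases (Nat.Prime.dvd_mul (by norm_num)).1 h10 with h | h
  · have h11 := (h.trans (Subgroup.card_dvd_of_le hMM)).trans h5
    rcases (Nat.Prime.dvd_mul (by norm_num)).1 h11 with h | h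
    · exact not19_SL hK 6 (Or.inl rfl) (h.trans h6)
    · exact not19_SL hK 3 (Or.inr rfl) (h.trans h7')
  · rw [card_T hK] at h
    have := (Nat.Prime.dvd_of_dvd_pow (by norm_num) h)
    norm_num at this

end K

end Cfsg.Agent.R2.H27.UsG
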